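import Mathlib

/-!
# A closed subset stable under generalisation is the range of a flat closed immersion
-/

universe u
open CategoryTheory AlgebraicGeometry TopologicalSpace

namespace Groth.Agent.GrpComp

variable {X : Scheme.{u}}

/-- sections whose germs vanish along `Z` -/
noncomputable def nearIdeal (Z : Set X) (U : X.Opens) : Ideal Γ(X, U) :=
  ⨅ x : {x : U // (x : X) ∈ Z}, RingHom.ker (X.presheaf.germ U x.1.1 x.1.2).hom

lemma mem_nearIdeal {Z : Set X} {U : X.Opens} {a : Γ(X, U)} :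
    a ∈ nearIdeal Z U ↔ ∀ (x : X) (hx : x ∈ U), x ∈ Z →
      X.presheaf.germ U x hx a = (0 : X.presheaf.stalk x) := by
  simp only [nearIdeal, Ideal.mem_iInf, RingHom.mem_ker]
  exact ⟨fun h x hx hxZ => h ⟨⟨x, hx⟩, hxZ⟩, fun h x => h x.1.1 x.1.2 x.2⟩

variable {U : X.Opens} (hU : IsAffineOpen U)

lemma germ_eq_zero_iff (p : PrimeSpectrum Γ(X, U)) (h : hU.fromSpec p ∈ U) (a : Γ(X, U)) :
    X.presheaf.germ U (hU.fromSpec p) h a = 0 ↔ ∃ s ∉ p.asIdeal, s * a = 0 := by
  let := TopCat.Presheaf.algebra_section_stalk X.presheaf ⟨hU.fromSpec p, h⟩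
  have := hU.isLocalization_stalk' p h
  change algebraMap Γ(X, U) (X.presheaf.stalk (hU.fromSpec p)) a = 0 ↔ _
  refine (@IsLocalization.map_eq_zero_iff _ _ p.asIdeal.primeCompl (X.presheaf.stalk _) _ _ this a).trans ?_
  exact ⟨fun ⟨s, hs⟩ => ⟨s.1, s.2, hs⟩, fun ⟨s, hs, hsa⟩ => ⟨⟨s, hs⟩, hsa⟩⟩

/-- prime avoiding a multiplicative set generated by two others -/
lemma exists_prime_le {R : Type*} [CommRing R] (I : Ideal R) (S : Submonoid R)
    (h : Disjoint (I : Set R) S) : ∃ q : PrimeSpectrum R, I ≤ q.asIdeal ∧ Disjoint (q.asIdeal : Set R) S := by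
  obtain ⟨q, hq, hle, hd⟩ := Ideal.exists_le_prime_disjoint I S h
  exact ⟨⟨q, hq⟩, hle, hd⟩

variable {Z : Set X} (hgen : StableUnderGeneralization Z)

include hgen in
lemma stableUnderGen_pre {p q : PrimeSpectrum Γ(X, U)} (hqp : q.asIdeal ≤ p.asIdeal)
    (hp : hU.fromSpec p ∈ Z) : hU.fromSpec q ∈ Z :=
  hgen (((PrimeSpectrum.le_iff_specializes q p).1 hqp).map hU.fromSpec.continuous) hp

include hgen in
lemma exists_pow_mul_mem (hZ : IsClosed Z) (f a : Γ(X, U))
    (h : ∀ p : PrimeSpectrum Γ(X, U), f ∉ p.asIdeal → hU.fromSpec p ∈ Z →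
      ∃ s ∉ p.asIdeal, s * a = 0) :
    ∃ m : ℕ, f ^ m * a ∈ nearIdeal Z U := by
  let O : ℕ → Set (PrimeSpectrum Γ(X, U)) := fun m => {p | ∃ s ∉ p.asIdeal, s * (f ^ m * a) = 0}
  have hO : ∀ m, IsOpen (O m) := fun m => isOpen_iff_forall_mem_open.2 fun p ⟨s, hs, hsa⟩ =>
    ⟨PrimeSpectrum.basicOpen s, fun q hq => ⟨s, hq, hsa⟩, (PrimeSpectrum.basicOpen s).2, hs⟩
  have hcov : hU.fromSpec ⁻¹' Z ⊆ ⋃ m, O m := by
    intro p hp
    by_contra hne
    simp only [Set.mem_iUnion, not_exists] at hne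
    let S : Submonoid Γ(X, U) := p.asIdeal.primeCompl ⊔ Submonoid.powers f
    let An : Ideal Γ(X, U) := (⊥ : Ideal Γ(X, U)).colon {a}
    have hd : Disjoint (An : Set Γ(X, U)) S := by
      rw [Set.disjoint_left]
      intro x hx hxS
      obtain ⟨s, hs, _, ⟨m, rfl⟩, rfl⟩ := Submonoid.mem_sup.1 hxS
      refine hne m ⟨s, hs, ?_⟩
      have := Submodule.mem_colon_singleton.1 hx
      rw [smul_eq_mul, Submodule.mem_bot] at this
      rw [← mul_assoc]; exact this
    obtain ⟨q, hAn, hq⟩ := exists_prime_le An S hd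
    have hqp : q.asIdeal ≤ p.asIdeal := fun x hx => by
      by_contra hxp
      exact Set.disjoint_left.1 hq hx (Submonoid.mem_sup_left hxp)
    have hfq : f ∉ q.asIdeal := fun hfq =>
      Set.disjoint_left.1 hq hfq (Submonoid.mem_sup_right ⟨1, pow_one f⟩)
    obtain ⟨s, hs, hsa⟩ := h q hfq (stableUnderGen_pre hU hgen hqp hp)
    exact hs (hAn (Submodule.mem_colon_singleton.2 (by rw [smul_eq_mul, hsa]; exact zero_mem _)))
  have hmono : Monotone O := fun m n hmn p ⟨s, hs, hsa⟩ => ⟨s, hs, by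
    obtain ⟨d, rfl⟩ := Nat.exists_eq_add_of_le hmn
    rw [pow_add, mul_comm (f ^ m), mul_assoc, mul_left_comm, hsa, mul_zero]⟩
  obtain ⟨m, hm⟩ := (hZ.preimage hU.fromSpec.continuous).isCompact.elim_directed_cover O hO hcov
    hmono.directed_le
  refine ⟨m, mem_nearIdeal.2 fun x hx hxZ => ?_⟩
  obtain ⟨p, rfl⟩ : x ∈ Set.range hU.fromSpec := hU.range_fromSpec.symm ▸ hx
  exact (germ_eq_zero_iff hU p hx _).2 (hm hxZ)

include hgen in
lemma exists_mem_nearIdeal_notMem (hZ : IsClosed Z) (p : PrimeSpectrum Γ(X, U))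
    (hp : hU.fromSpec p ∉ Z) : ∃ t ∈ nearIdeal Z U, t ∉ p.asIdeal := by
  let O : Γ(X, U) → Set (PrimeSpectrum Γ(X, U)) := fun s =>
    {q | s ∉ q.asIdeal ∧ ∃ t ∉ p.asIdeal, s * t = 0}
  have hO : ∀ s, IsOpen (O s) := fun s => isOpen_iff_forall_mem_open.2 fun q hq =>
    ⟨PrimeSpectrum.basicOpen s, fun r hr => ⟨hr, hq.2⟩, (PrimeSpectrum.basicOpen s).2, hq.1⟩
  have hcov : hU.fromSpec ⁻¹' Z ⊆ ⋃ s, O s := by
    intro q hq
    by_contra hne
    simp only [Set.mem_iUnion, not_exists] at hne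
    let S : Submonoid Γ(X, U) := q.asIdeal.primeCompl ⊔ p.asIdeal.primeCompl
    have hd : Disjoint ((⊥ : Ideal Γ(X, U)) : Set Γ(X, U)) S := by
      rw [Set.disjoint_left]
      intro x hx hxS
      obtain ⟨s, hs, t, ht, rfl⟩ := Submonoid.mem_sup.1 hxS
      exact hne s ⟨hs, t, ht, hx⟩
    obtain ⟨r, -, hr⟩ := exists_prime_le _ S hd
    have h1 : r.asIdeal ≤ q.asIdeal := fun x hx => by
      by_contra hxp
      exact Set.disjoint_left.1 hr hx (Submonoid.mem_sup_left hxp)
    have h2 : r.asIdeal ≤ p.asIdeal := fun x hx => by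
      by_contra hxp
      exact Set.disjoint_left.1 hr hx (Submonoid.mem_sup_right hxp)
    exact hp ((((PrimeSpectrum.le_iff_specializes r p).1 h2).map hU.fromSpec.continuous).mem_closed hZ
      (stableUnderGen_pre hU hgen h1 hq))
  obtain ⟨F, hF⟩ := (hZ.preimage hU.fromSpec.continuous).isCompact.elim_finite_subcover O hO hcov
  classical
  choose! t ht ht0 using fun s (h : ∃ t ∉ p.asIdeal, s * t = 0) => h
  replace hF := hF
  let F' := F.filter fun s => ∃ t ∉ p.asIdeal, s * t = 0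
  refine ⟨∏ s ∈ F', t s, mem_nearIdeal.2 fun x hx hxZ => ?_, ?_⟩
  · obtain ⟨q, rfl⟩ : x ∈ Set.range hU.fromSpec := hU.range_fromSpec.symm ▸ hx
    obtain ⟨s, hs, hqs⟩ := Set.mem_iUnion₂.1 (hF hxZ)
    obtain ⟨hqs, hex⟩ := hqs
    refine (germ_eq_zero_iff hU q hx _).2 ⟨s, hqs, ?_⟩
    have hs' : s ∈ F' := Finset.mem_filter.2 ⟨hs, hex⟩
    rw [← Finset.mul_prod_erase F' t hs', ← mul_assoc, ht0 s hex, zero_mul]
  · exact Submonoid.prod_mem p.asIdeal.primeCompl fun s hs => ht s (Finset.mem_filter.1 hs).2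

/-- the ideal sheaf of sections vanishing near `Z` -/
noncomputable def flatIdeal (Z : Set X) (hZ : IsClosed Z) (hgen : StableUnderGeneralization Z) :
    X.IdealSheafData :=
  Scheme.IdealSheafData.mkOfMemSupportIff (fun U => nearIdeal Z U.1)
    (fun U f => by
      refine le_antisymm (Ideal.map_le_iff_le_comap.2 fun a ha => mem_nearIdeal.2 fun x hx hxZ => ?_)
        fun s hs => ?_
      · exact (TopCat.Presheaf.germ_res_apply X.presheaf (homOfLE <| X.basicOpen_le f) x hx a).trans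
          (mem_nearIdeal.1 ha x (X.basicOpen_le f hx) hxZ)
      · let ρ := (X.presheaf.map (homOfLE <| X.basicOpen_le f).op).hom
        let := ρ.toAlgebra
        have : IsLocalization.Away f Γ(X, X.basicOpen f) := U.2.isLocalization_basicOpen f
        obtain ⟨a, ⟨_, n, rfl⟩, hs'⟩ := IsLocalization.exists_mk'_eq (Submonoid.powers f) s
        have ha : ∀ p : PrimeSpectrum Γ(X, U.1), f ∉ p.asIdeal → U.2.fromSpec p ∈ Z →
            ∃ r ∉ p.asIdeal, r * a = 0 := by
          intro p hfp hpZ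
          have hpU : U.2.fromSpec p ∈ U.1 := U.2.range_fromSpec.le ⟨p, rfl⟩
          have hpf : U.2.fromSpec p ∈ X.basicOpen f := by
            rw [← U.2.fromSpec_image_basicOpen]; exact ⟨p, hfp, rfl⟩
          refine (germ_eq_zero_iff U.2 p hpU a).1 ?_
          have h0 := mem_nearIdeal.1 hs _ hpf hpZ
          have hspec : s * ρ (f ^ n) = ρ a := by
            rw [← hs']; exact IsLocalization.mk'_spec _ a _
          have h1 := congrArg (X.presheaf.germ (X.basicOpen f) _ hpf).hom hspec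
          have h0' : (X.presheaf.germ (X.basicOpen f) _ hpf).hom s = 0 := h0
          rw [map_mul, h0', zero_mul] at h1
          rw [← TopCat.Presheaf.germ_res_apply X.presheaf (homOfLE <| X.basicOpen_le f) _ hpf a]
          exact h1.symm
        obtain ⟨m, hm⟩ := exists_pow_mul_mem U.2 hgen hZ f a ha
        rw [← hs']
        have heq : IsLocalization.mk' Γ(X, X.basicOpen f) a (⟨f ^ n, n, rfl⟩ : Submonoid.powers f) =
            IsLocalization.mk' Γ(X, X.basicOpen f) (f ^ m * a) (⟨f ^ (m + n), m + n, rfl⟩ : Submonoid.powers f) := by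
          rw [IsLocalization.mk'_eq_iff_eq]
          congr 1
          change f ^ (m + n) * a = f ^ n * (f ^ m * a)
          ring
        rw [heq, IsLocalization.mk'_eq_mul_mk'_one]
        exact Ideal.mul_mem_right _ _ (Ideal.mem_map_of_mem ρ hm))
    Z fun U x hx => by
      obtain ⟨p, rfl⟩ : x ∈ Set.range U.2.fromSpec := U.2.range_fromSpec.symm ▸ hx
      rw [Scheme.mem_zeroLocus_iff]
      constructor
      · intro hxZ a ha hbo
        rw [Scheme.mem_basicOpen X a _ hx, mem_nearIdeal.1 ha _ hx hxZ] at hbo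
        exact not_isUnit_zero hbo
      · intro h
        by_contra hxZ
        obtain ⟨t, ht, htp⟩ := exists_mem_nearIdeal_notMem U.2 hgen hZ p hxZ
        exact h t ht (by rw [← U.2.fromSpec_image_basicOpen]; exact ⟨p, htp, rfl⟩)

/-- a closed set stable under generalisation carries a flat closed subscheme -/
theorem exists_flat_closed (Z : Set X) (hZ : IsClosed Z) (hgen : StableUnderGeneralization Z) :
    ∃ (W : Scheme.{u}) (i : W ⟶ X), IsClosedImmersion i ∧ Flat i ∧ Set.range i = Z ∧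
      ∀ w, Function.Bijective (i.stalkMap w).hom := by
  let I := flatIdeal Z hZ hgen
  have hr : Set.range I.subschemeι = Z := I.range_subschemeι
  have hbij : ∀ w, Function.Bijective (I.subschemeι.stalkMap w).hom := by
    intro w
    refine ⟨(injective_iff_map_eq_zero _).2 fun g hg => ?_, I.subschemeι.stalkMap_surjective w⟩
    obtain ⟨V, hxV, s, rfl⟩ := X.presheaf.exists_germ_eq g
    rw [← CommRingCat.comp_apply, Scheme.Hom.germ_stalkMap, CommRingCat.comp_apply] at hg
    obtain ⟨W, hwW, i₁, i₂, heq⟩ := I.subscheme.presheaf.germ_eq w (U := I.subschemeι ⁻¹ᵁ V) (V := I.subschemeι ⁻¹ᵁ V) hxV hxV _ 0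
      (by rw [hg, map_zero])
    rw [map_zero] at heq
    obtain ⟨W', hW', hWW'⟩ := I.subschemeι.isEmbedding.isInducing.isOpen_iff.1 W.2
    have hwW' : I.subschemeι w ∈ W' := by rw [← Set.mem_preimage, hWW']; exact hwW
    obtain ⟨U, hU, hxU, hUle⟩ := exists_isAffineOpen_mem_and_subset
      (U := V ⊓ ⟨W', hW'⟩) (show I.subschemeι w ∈ V ⊓ ⟨W', hW'⟩ from ⟨hxV, hwW'⟩)
    have hle : I.subschemeι ⁻¹ᵁ U ≤ W := fun z hz => by
      have : z ∈ (I.subschemeι ⁻¹' W') := (hUle hz).2
      rwa [hWW'] at this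
    have hUV : U ≤ V := fun z hz => (hUle hz).1
    have hker : X.presheaf.map (homOfLE hUV).op s ∈ I.ideal ⟨U, hU⟩ := by
      rw [← I.ker_subschemeι_app ⟨U, hU⟩, RingHom.mem_ker]
      rw [← CommRingCat.comp_apply, I.subschemeι.naturality, CommRingCat.comp_apply]
      have : ((TopologicalSpace.Opens.map I.subschemeι.base).map (homOfLE hUV)).op =
          i₁.op ≫ (homOfLE hle).op := Subsingleton.elim _ _
      rw [Quiver.Hom.unop_op, this, Functor.map_comp, CommRingCat.comp_apply, heq, map_zero]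
    have := mem_nearIdeal.1 hker _ hxU (hr ▸ ⟨w, rfl⟩)
    rwa [TopCat.Presheaf.germ_res_apply] at this
  exact ⟨_, I.subschemeι, inferInstance,
    Flat.of_stalkMap _ fun w => RingHom.Flat.of_bijective (hbij w), hr, hbij⟩

end Groth.Agent.GrpComp
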