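import Groth.Agent.GrpComp.Geom
import Groth.Agent.GrpComp.FlatClosed
import Groth.Agent.GrpField.SchImg

/-!
# The identity component as a flat closed subgroup scheme
-/

universe u
open CategoryTheory CategoryTheory.Limits MonoidalCategory CartesianMonoidalCategory MonObj
open AlgebraicGeometry Groth.Agent.GrpField

namespace Groth.Agent.GrpComp

/-- morphisms landing set theoretically in a flat closed subscheme factor through it -/
theorem exists_factor_flat {W X T : Scheme.{u}} (i : W ⟶ X) [IsClosedImmersion i] [Flat i]
    (f : T ⟶ X) (hf : Set.range f ⊆ Set.range i) : ∃ g : T ⟶ W, g ≫ i = f := by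
  have : Surjective (pullback.fst f i) := ⟨fun t => by
    have : t ∈ Set.range (pullback.fst f i) := by
      rw [Scheme.Pullback.range_fst]; exact hf ⟨t, rfl⟩
    exact this⟩
  have := Flat.isIso_of_surjective_of_mono (pullback.fst f i)
  exact ⟨inv (pullback.fst f i) ≫ pullback.snd f i, by
    rw [Category.assoc, ← pullback.condition, IsIso.inv_hom_id_assoc]⟩

variable {k : Type u} [Field k] (G : Over (Spec (CommRingCat.of k))) [GrpObj G]

/-- the identity component is generalisation stable -/
theorem stableUnderGeneralization_ept :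
    StableUnderGeneralization (connectedComponent (ept G)) := by
  intro x y hyx hx
  rw [(connectedComponent_ept G).1] at hx ⊢
  rw [component_eq_of_mem' G hx, ← component_eq_of_mem' G
    (hyx.mem_closed isClosed_irreducibleComponent mem_irreducibleComponent)]
  exact mem_irreducibleComponent

/-- the identity component as a closed subgroup -/
theorem exists_identity_subgroup :
    ∃ (G₀ : Over (Spec (CommRingCat.of k))) (_ : GrpObj G₀) (incl : G₀ ⟶ G) (_ : IsMonHom incl),
      IsClosedImmersion incl.left ∧ Flat incl.left ∧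
        Set.range incl.left = connectedComponent (ept G) ∧ GeometricallyIrreducible G₀.hom ∧
        CompactSpace G₀.left ∧ ∀ w, Function.Bijective (incl.left.stalkMap w).hom := by
  obtain ⟨W, i, hi, hfl, hr, hbij⟩ := exists_flat_closed (connectedComponent (ept G))
    isClosed_connectedComponent (stableUnderGeneralization_ept G)
  let K : Over (Spec (CommRingCat.of k)) := Over.mk (i ≫ G.hom)
  let j : K ⟶ G := Over.homMk i rfl
  have : IsClosedImmersion j.left := hi
  have : Flat j.left := hfl
  have hgi : GeometricallyIrreducible K.hom := geometricallyIrreducible_of_range G i hr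
  obtain ⟨w₀, hw₀⟩ : ept G ∈ Set.range i := hr ▸ mem_connectedComponent
  have hq : ∀ z, ((fst K K ≫ j)⁻¹ * (snd K K ≫ j)).left z ∈ Set.range i := by
    have : IrreducibleSpace K.left := GeometricallyIrreducible.irreducibleSpace K.hom
      (fun _ _ => @isOpen_discrete _ _ (by
        have : Subsingleton (Spec (CommRingCat.of k)) := inferInstanceAs (Subsingleton (PrimeSpectrum k))
        infer_instance) _)
    have : UniversallyOpen K.hom := inferInstance
    have : IrreducibleSpace (K ⊗ K).left := inferInstanceAs (IrreducibleSpace ↥(pullback K.hom K.hom))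
    let q := (fst K K ≫ j)⁻¹ * (snd K K ≫ j)
    have hirr : IsIrreducible (Set.range q.left) := by
      rw [← Set.image_univ]
      exact (IrreducibleSpace.isIrreducible_univ _).image _ q.left.continuous.continuousOn
    obtain ⟨T, hT, a, ha⟩ := exists_pt (X := K) w₀
    obtain ⟨t⟩ := IsPt.nonempty T
    have he : ept G ∈ Set.range q.left := ⟨(lift a a).left t, by
      rw [← Scheme.Hom.comp_apply, ← Over.comp_left, MonObj.comp_mul, GrpObj.comp_inv,
        lift_fst_assoc, lift_snd_assoc, inv_mul_cancel, one_apply]⟩
    obtain ⟨D, hD, hle⟩ := exists_mem_irreducibleComponents_subset_of_isIrreducible _ hirr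
    intro z
    rw [hr, (connectedComponent_ept G).1, ← eq_irreducibleComponent' G hD (hle he)]
    exact hle ⟨z, rfl⟩
  obtain ⟨he, heh⟩ : ∃ e : Spec (CommRingCat.of k) ⟶ W, e ≫ i = η[G].left :=
    ⟨_, (exists_factor_flat i η[G].left (by
      rintro _ ⟨t, rfl⟩
      have : Subsingleton (Spec (CommRingCat.of k)) := inferInstanceAs (Subsingleton (PrimeSpectrum k))
      rw [hr, show η[G].left t = ept G from
        congrArg η[G].left (Subsingleton.elim (α := Spec (CommRingCat.of k)) _ _)]
      exact mem_connectedComponent)).choose_spec⟩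
  obtain ⟨hgrp, hmon⟩ := SchImg.exists_grpObj_of_div j
    ⟨Over.homMk he (by
      change he ≫ i ≫ G.hom = _
      rw [← Category.assoc, heh]; exact Over.w η[G]), Over.OverMorphism.ext heh⟩
    fun T k₁ k₂ => by
      obtain ⟨g, hg⟩ := exists_factor_flat i ((k₁ ≫ j)⁻¹ * (k₂ ≫ j)).left (by
        rintro _ ⟨t, rfl⟩
        have h : (k₁ ≫ j)⁻¹ * (k₂ ≫ j) = lift k₁ k₂ ≫ ((fst K K ≫ j)⁻¹ * (snd K K ≫ j)) := by
          rw [MonObj.comp_mul, GrpObj.comp_inv, lift_fst_assoc, lift_snd_assoc]
        rw [h, Over.comp_left, Scheme.Hom.comp_apply]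
        exact hq _)
      refine ⟨Over.homMk g ?_, Over.OverMorphism.ext hg⟩
      change g ≫ i ≫ G.hom = _
      rw [← Category.assoc, hg]; exact Over.w _
  refine ⟨K, hgrp, j, hmon, hi, hfl, hr, hgi, ⟨?_⟩, hbij⟩
  refine j.left.isClosedEmbedding.isInducing.isCompact_iff.2 ?_
  rw [Set.image_univ]
  change IsCompact (Set.range i)
  rw [hr]
  exact (connectedComponent_ept G).2

end Groth.Agent.GrpComp
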