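import Mathlib
import Groth.Agent.GrpField.Translate
import Groth.Agent.GeomConn.Basic

/-!
# Products of irreducible sets over an algebraically closed field
-/

universe u
open CategoryTheory CategoryTheory.Limits MonoidalCategory CartesianMonoidalCategory MonObj
open AlgebraicGeometry Groth.Agent.GrpField

namespace Groth.Agent.GrpComp

/-- the product of two sets of points -/
def box {S : Scheme.{u}} {X Y : Over S} (C : Set X.left) (D : Set Y.left) : Set (X ⊗ Y).left :=
  (fst X Y).left ⁻¹' C ∩ (snd X Y).left ⁻¹' D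

lemma mem_box {S : Scheme.{u}} {X Y T : Over S} {C : Set X.left} {D : Set Y.left}
    (a : T ⟶ X) (b : T ⟶ Y) (t : T.left) (ha : a.left t ∈ C) (hb : b.left t ∈ D) :
    (lift a b).left t ∈ box C D := by
  constructor
  · rw [Set.mem_preimage, ← Scheme.Hom.comp_apply, ← Over.comp_left, lift_fst]; exact ha
  · rw [Set.mem_preimage, ← Scheme.Hom.comp_apply, ← Over.comp_left, lift_snd]; exact hb

variable {k : Type u} [Field k] {X Y : Over (Spec (CommRingCat.of k))}

lemma mem_range_map {X' Y' : Over (Spec (CommRingCat.of k))} (a : X' ⟶ X) (b : Y' ⟶ Y)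
    (z : (X ⊗ Y).left) (ha : (fst X Y).left z ∈ Set.range a.left)
    (hb : (snd X Y).left z ∈ Set.range b.left) : z ∈ Set.range (a ⊗ₘ b).left := by
  rw [show (a ⊗ₘ b).left = pullback.map X'.hom Y'.hom X.hom Y.hom a.left b.left (𝟙 _)
    (by simp [Over.w a]) (by simp [Over.w b]) from Over.tensorHom_left a b]
  erw [Scheme.Pullback.range_map]
  exact ⟨ha, hb⟩

/-- generalise the second coordinate inside a given open set -/
lemma exists_gen_snd {z : (X ⊗ Y).left} {gen : Y.left} (h : gen ⤳ (snd X Y).left z)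
    {O : Set (X ⊗ Y).left} (hO : IsOpen O) (hz : z ∈ O) :
    ∃ z' ∈ O, (fst X Y).left z' = (fst X Y).left z ∧ (snd X Y).left z' = gen := by
  obtain ⟨T, hT, c, hc⟩ := exists_pt ((fst X Y).left z)
  obtain ⟨t⟩ := IsPt.nonempty T
  obtain ⟨w, hw⟩ := mem_range_map c (𝟙 Y) z ⟨t, hc t⟩ ⟨_, rfl⟩
  have hop : IsOpenMap (snd T Y).left :=
    have := IsPt.uopen T
    (pullback.snd T.hom Y.hom).isOpenMap
  have hsw : (snd T Y).left w = (snd X Y).left z := by
    rw [← hw, ← Scheme.Hom.comp_apply, ← Over.comp_left, tensorHom_snd, Category.comp_id]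
  obtain ⟨w', hw', hwg⟩ := (hsw ▸ h).mem_open (hop _ (hO.preimage (c ⊗ₘ 𝟙 Y).left.continuous))
    ⟨w, show (c ⊗ₘ 𝟙 Y).left w ∈ O from hw ▸ hz, rfl⟩
  refine ⟨(c ⊗ₘ 𝟙 Y).left w', hw', ?_, ?_⟩
  · rw [← Scheme.Hom.comp_apply, ← Over.comp_left, tensorHom_fst, Over.comp_left,
      Scheme.Hom.comp_apply, hc]
  · rw [← Scheme.Hom.comp_apply, ← Over.comp_left, tensorHom_snd, Category.comp_id, hwg]

/-- generalise the first coordinate inside a given open set -/
lemma exists_gen_fst {z : (X ⊗ Y).left} {gen : X.left} (h : gen ⤳ (fst X Y).left z)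
    {O : Set (X ⊗ Y).left} (hO : IsOpen O) (hz : z ∈ O) :
    ∃ z' ∈ O, (fst X Y).left z' = gen ∧ (snd X Y).left z' = (snd X Y).left z := by
  obtain ⟨T, hT, c, hc⟩ := exists_pt ((snd X Y).left z)
  obtain ⟨t⟩ := IsPt.nonempty T
  obtain ⟨w, hw⟩ := mem_range_map (𝟙 X) c z ⟨_, rfl⟩ ⟨t, hc t⟩
  have hsw : (fst X T).left w = (fst X Y).left z := by
    rw [← hw, ← Scheme.Hom.comp_apply, ← Over.comp_left, tensorHom_fst, Category.comp_id]
  obtain ⟨w', hw', hwg⟩ := (hsw ▸ h).mem_open
    (isOpenMap_fst _ (hO.preimage (𝟙 X ⊗ₘ c).left.continuous))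
    ⟨w, show (𝟙 X ⊗ₘ c).left w ∈ O from hw ▸ hz, rfl⟩
  refine ⟨(𝟙 X ⊗ₘ c).left w', hw', ?_, ?_⟩
  · rw [← Scheme.Hom.comp_apply, ← Over.comp_left, tensorHom_fst, Category.comp_id, hwg]
  · rw [← Scheme.Hom.comp_apply, ← Over.comp_left, tensorHom_snd, Over.comp_left,
      Scheme.Hom.comp_apply, hc]

/-- a product of irreducible closed sets over an algebraically closed field is irreducible -/
theorem isIrreducible_box [IsAlgClosed k] {C : Set X.left} {D : Set Y.left} (hC : IsIrreducible C)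
    (hC' : IsClosed C) (hD : IsIrreducible D) (hD' : IsClosed D) : IsIrreducible (box C D) := by
  let η₁ := hC.genericPoint
  let η₂ := hD.genericPoint
  have e₁ : closure ({η₁} : Set X.left) = C := hC.closure_genericPoint hC'
  have e₂ : closure ({η₂} : Set Y.left) = D := hD.closure_genericPoint hD'
  obtain ⟨φ₁, hφ₁⟩ := Spec.map_surjective (X.left.fromSpecResidueField η₁ ≫ X.hom)
  obtain ⟨φ₂, hφ₂⟩ := Spec.map_surjective (Y.left.fromSpecResidueField η₂ ≫ Y.hom)
  let T₁ : Over (Spec (CommRingCat.of k)) := Over.mk (X.left.fromSpecResidueField η₁ ≫ X.hom)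
  let T₂ : Over (Spec (CommRingCat.of k)) := Over.mk (Y.left.fromSpecResidueField η₂ ≫ Y.hom)
  let a : T₁ ⟶ X := Over.homMk (X.left.fromSpecResidueField η₁) rfl
  let b : T₂ ⟶ Y := Over.homMk (Y.left.fromSpecResidueField η₂) rfl
  have : IrreducibleSpace ↥(T₁ ⊗ T₂).left := by
    let : Algebra k (X.left.residueField η₁) := φ₁.hom.toAlgebra
    let : Algebra k (Y.left.residueField η₂) := φ₂.hom.toAlgebra
    have h₁ : GeometricallyIrreducible T₁.hom := by
      have h := GeomConn.geometricallyIrreducible_Spec (k := k) (X.left.residueField η₁)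
      change GeometricallyIrreducible (X.left.fromSpecResidueField η₁ ≫ X.hom)
      rw [← hφ₁]
      exact h
    have : UniversallyOpen T₁.hom := PointBase.uopen _ _
    have : IrreducibleSpace T₂.left :=
      inferInstanceAs (IrreducibleSpace (PrimeSpectrum (Y.left.residueField η₂)))
    exact inferInstanceAs (IrreducibleSpace ↥(pullback T₁.hom T₂.hom))
  have hF : IsIrreducible (Set.range (a ⊗ₘ b).left) := by
    rw [← Set.image_univ]
    exact (IrreducibleSpace.isIrreducible_univ _).image _ (a ⊗ₘ b).left.continuous.continuousOn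
  have hsub : Set.range (a ⊗ₘ b).left ⊆ box C D := by
    rintro _ ⟨w, rfl⟩
    constructor
    · rw [Set.mem_preimage, ← Scheme.Hom.comp_apply, ← Over.comp_left, tensorHom_fst,
        Over.comp_left, Scheme.Hom.comp_apply]
      exact e₁ ▸ subset_closure (Scheme.fromSpecResidueField_apply η₁ _)
    · rw [Set.mem_preimage, ← Scheme.Hom.comp_apply, ← Over.comp_left, tensorHom_snd,
        Over.comp_left, Scheme.Hom.comp_apply]
      exact e₂ ▸ subset_closure (Scheme.fromSpecResidueField_apply η₂ _)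
  have hbox : IsClosed (box C D) :=
    (hC'.preimage (fst X Y).left.continuous).inter (hD'.preimage (snd X Y).left.continuous)
  suffices box C D = closure (Set.range (a ⊗ₘ b).left) from this ▸ hF.closure
  refine subset_antisymm (fun z hz => mem_closure_iff.2 fun O hO hzO => ?_)
    (closure_minimal hsub hbox)
  obtain ⟨z₁, hz₁, h₁, h₁'⟩ := exists_gen_fst
    (gen := η₁) (specializes_iff_mem_closure.2 (e₁.symm ▸ hz.1)) hO hzO
  obtain ⟨z₂, hz₂, h₂, h₂'⟩ := exists_gen_snd
    (gen := η₂) (z := z₁) (h₁'.symm ▸ specializes_iff_mem_closure.2 (e₂.symm ▸ hz.2)) hO hz₁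
  obtain ⟨t₁⟩ : Nonempty T₁.left := inferInstanceAs (Nonempty (PrimeSpectrum _))
  obtain ⟨t₂⟩ : Nonempty T₂.left := inferInstanceAs (Nonempty (PrimeSpectrum _))
  exact ⟨z₂, hz₂, mem_range_map a b z₂
    ⟨t₁, (Scheme.fromSpecResidueField_apply η₁ t₁).trans (h₁.symm.trans h₂.symm)⟩
    ⟨t₂, (Scheme.fromSpecResidueField_apply η₂ t₂).trans h₂'.symm⟩⟩

end Groth.Agent.GrpComp
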