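import Groth.Agent.GrpComp.OrbitEq

/-!
# Topological consequences for homogeneous spaces
-/

universe u
open CategoryTheory CategoryTheory.Limits MonoidalCategory CartesianMonoidalCategory MonObj
open AlgebraicGeometry Groth.Agent.GrpField

namespace Groth.Agent.GrpComp

variable {k : Type u} [Field k] {G X : Over (Spec (CommRingCat.of k))} [GrpObj G]
  (a : AlgGrp.Action G X)

/-- the sweep of a set by the identity component -/
noncomputable def sweep (O : Set X.left) : Set X.left :=
  a.act.left '' box (connectedComponent (ept G)) O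

/-- the sweep of an open set is open -/
theorem isOpen_sweep (O : Set X.left) (hO : IsOpen O) : IsOpen (sweep a O) := by
  refine isOpen_iff_forall_mem_open.2 fun y hy => ?_
  obtain ⟨p, hp, rfl⟩ := hy
  obtain ⟨T, hT, r, hr⟩ := exists_pt p
  obtain ⟨t⟩ := IsPt.nonempty T
  let c := r ≫ fst G X
  have hc : ∀ s, c.left s ∈ connectedComponent (ept G) := fun s => by
    rw [Over.comp_left, Scheme.Hom.comp_apply, hr]; exact hp.1
  refine ⟨(fst X T).left '' (homeo (trX a c) '' ((fst X T).left ⁻¹' O)), ?_,
    isOpenMap_fst _ ((homeo _).isOpenMap _ (hO.preimage (fst X T).left.continuous)), ?_⟩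
  · rintro _ ⟨_, ⟨q, hq, rfl⟩, rfl⟩
    obtain ⟨T', hT', v, hv⟩ := exists_pt q
    obtain ⟨t'⟩ := IsPt.nonempty T'
    refine ⟨(lift ((v ≫ snd X T) ≫ c) (v ≫ fst X T)).left t',
      mem_box _ _ t' (hc _) (by rw [Over.comp_left, Scheme.Hom.comp_apply, hv]; exact hq), ?_⟩
    rw [← Scheme.Hom.comp_apply, ← Over.comp_left,
      show lift ((v ≫ snd X T) ≫ c) (v ≫ fst X T) ≫ a.act = v ≫ (trX a c).hom ≫ fst X T by
        simp [trX, GrpAct.comp_smul],
      Over.comp_left, Over.comp_left, Scheme.Hom.comp_apply, Scheme.Hom.comp_apply, hv]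
    rfl
  · refine ⟨_, ⟨(lift (r ≫ snd G X) (𝟙 T)).left t, ?_, rfl⟩, ?_⟩
    · rw [Set.mem_preimage, ← Scheme.Hom.comp_apply, ← Over.comp_left, lift_fst, Over.comp_left,
        Scheme.Hom.comp_apply, hr]
      exact hp.2
    · rw [trX_apply, ← Scheme.Hom.comp_apply, ← Over.comp_left, lift_fst,
        show lift c (r ≫ snd G X) = r by rw [← comp_lift, lift_fst_snd, Category.comp_id],
        Over.comp_left, Scheme.Hom.comp_apply, hr]

variable (hΦ : Surjective (lift a.act (snd G X)).left)
include hΦ

/-- the component of a point is quasi-compact -/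
theorem isCompact_component (y : X.left) : IsCompact (irreducibleComponent y) := by
  obtain ⟨D⟩ := nonempty_idComp G
  obtain ⟨T, hT, w, hw⟩ := exists_pt y
  obtain ⟨K, _, g, v, -⟩ := exists_fpt T
  obtain ⟨t⟩ : Nonempty (Fpt g).left := inferInstanceAs (Nonempty (PrimeSpectrum K))
  have := component_eq_range_psi a hΦ D (v ≫ w) t
  rw [Over.comp_left, Scheme.Hom.comp_apply, hw] at this
  exact this ▸ isCompact_range_psi a D _

/-- the sweep is the union of the components meeting the set -/
theorem mem_sweep_iff (O : Set X.left) (y : X.left) :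
    y ∈ sweep a O ↔ ∃ x ∈ O, irreducibleComponent x = irreducibleComponent y := by
  obtain ⟨D⟩ := nonempty_idComp G
  letI := D.grp
  constructor
  · rintro ⟨p, hp, rfl⟩
    obtain ⟨T, hT, r, hr⟩ := exists_pt p
    obtain ⟨K, _, g, v, -⟩ := exists_fpt T
    obtain ⟨t⟩ : Nonempty (Fpt g).left := inferInstanceAs (Nonempty (PrimeSpectrum K))
    let u := v ≫ r ≫ snd G X
    obtain ⟨d, hd⟩ := D.mem_range (v ≫ r ≫ fst G X) fun s => by
      simp only [Over.comp_left, Scheme.Hom.comp_apply, hr]; exact hp.1
    refine ⟨u.left t, by simp only [u, Over.comp_left, Scheme.Hom.comp_apply, hr]; exact hp.2,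
      (uniq_homog a hΦ).eq_of_mem ?_⟩
    rw [component_eq_range_psi a hΦ D u t]
    refine ⟨(lift d (𝟙 _)).left t, ?_⟩
    rw [← Scheme.Hom.comp_apply, ← Over.comp_left, comp_psi, hd, Category.id_comp]
    rw [show lift (v ≫ r ≫ fst G X) u ≫ a.act = v ≫ r ≫ a.act by
      simp only [u, ← comp_lift, lift_fst_snd, Category.comp_id, Category.assoc]]
    simp only [Over.comp_left, Scheme.Hom.comp_apply, hr]
  · rintro ⟨x, hx, he⟩
    obtain ⟨T, hT, w, hw⟩ := exists_pt x
    obtain ⟨K, _, g, v, -⟩ := exists_fpt T
    obtain ⟨t⟩ : Nonempty (Fpt g).left := inferInstanceAs (Nonempty (PrimeSpectrum K))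
    have hu : (v ≫ w).left t = x := by rw [Over.comp_left, Scheme.Hom.comp_apply, hw]
    have hy : y ∈ Set.range (psi a D (v ≫ w)).left := by
      rw [← component_eq_range_psi a hΦ D (v ≫ w) t, hu, he]; exact mem_irreducibleComponent
    obtain ⟨q, rfl⟩ := hy
    refine ⟨(D.incl ▷ Fpt g ≫ G ◁ (v ≫ w)).left q, ⟨?_, ?_⟩, ?_⟩
    · rw [Set.mem_preimage, ← Scheme.Hom.comp_apply, ← Over.comp_left]
      simp only [Category.assoc, whiskerLeft_fst, whiskerRight_fst, Over.comp_left,
        Scheme.Hom.comp_apply]
      rw [← D.range]; exact ⟨_, rfl⟩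
    · rw [Set.mem_preimage, ← Scheme.Hom.comp_apply, ← Over.comp_left]
      simp only [Category.assoc, whiskerLeft_snd, whiskerRight_snd_assoc, Over.comp_left,
        Scheme.Hom.comp_apply]
      have : Subsingleton (Fpt g).left := inferInstanceAs (Subsingleton (PrimeSpectrum K))
      rw [hw]; exact hx
    · rw [← Scheme.Hom.comp_apply, ← Over.comp_left]
      congr 2
      rw [show (D.incl ▷ Fpt g) ≫ G ◁ (v ≫ w) =
          lift (fst D.obj (Fpt g) ≫ D.incl) (snd D.obj (Fpt g) ≫ v ≫ w) by
        apply CartesianMonoidalCategory.hom_ext <;> simp]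
      rfl

/-- for a retrocompact open the sweep is the closure -/
theorem sweep_eq_closure (U : X.left.Opens) [QuasiCompact U.ι] :
    sweep a (U : Set X.left) = closure (U : Set X.left) := by
  refine subset_antisymm (fun y hy => ?_) fun y hy => ?_
  · obtain ⟨x, hx, he⟩ := (mem_sweep_iff a hΦ _ y).1 hy
    have h : irreducibleComponent x ⊆ closure (irreducibleComponent x ∩ U) :=
      subset_closure_inter_of_isPreirreducible_of_isOpen isIrreducible_irreducibleComponent.2 U.2
        ⟨x, mem_irreducibleComponent, hx⟩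
    exact closure_mono Set.inter_subset_right (h (he ▸ mem_irreducibleComponent))
  · obtain ⟨x, hx⟩ := DomLib.exists_specializes U.ι (y := y) (by rwa [U.range_ι])
    exact (mem_sweep_iff a hΦ _ y).2 ⟨U.ι x, x.2,
      (uniq_homog a hΦ).eq_of_mem (hx.mem_closed isClosed_irreducibleComponent mem_irreducibleComponent)⟩

/-- with quasi-separatedness connected components are irreducible components -/
theorem connectedComponent_eq_homog [QuasiSeparatedSpace X.left] (x : X.left) :
    connectedComponent x = irreducibleComponent x := by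
  refine subset_antisymm (fun y hy => ?_)
    (isIrreducible_irreducibleComponent.2.isPreconnected.subset_connectedComponent
      mem_irreducibleComponent)
  by_contra hne
  have hu := uniq_homog a hΦ
  have hI : IsIrreducible (irreducibleComponent x) := isIrreducible_irreducibleComponent
  have hg : hI.genericPoint ∈ irreducibleComponent x :=
    (hI.closure_genericPoint isClosed_irreducibleComponent).le (subset_closure rfl)
  have hgy : hI.genericPoint ∉ irreducibleComponent y := fun h => hne <| by
    rw [hu.eq_of_mem hg, ← hu.eq_of_mem h]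
    exact mem_irreducibleComponent
  obtain ⟨V, hV, hgV, hVy⟩ := exists_isAffineOpen_mem_and_subset
    (U := ⟨(irreducibleComponent y)ᶜ, isClosed_irreducibleComponent.isOpen_compl⟩) hgy
  have : CompactSpace V := isCompact_iff_compactSpace.mp hV.isCompact
  have : QuasiSeparatedSpace (⊤_ Scheme.{u}) := inferInstance
  have : QuasiCompact V.ι := QuasiCompact.of_comp V.ι (terminal.from X.left)
  have hcl : IsClopen (sweep a (V : Set X.left)) :=
    ⟨sweep_eq_closure a hΦ V ▸ isClosed_closure, isOpen_sweep a _ V.2⟩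
  have hx : x ∈ sweep a (V : Set X.left) := (mem_sweep_iff a hΦ _ x).2 ⟨_, hgV, (hu.eq_of_mem hg).symm⟩
  obtain ⟨v, hv, hvy⟩ := (mem_sweep_iff a hΦ _ y).1 (hcl.connectedComponent_subset hx hy)
  exact hVy hv (hvy ▸ mem_irreducibleComponent)

/-- the component of a rational point is geometrically irreducible -/
theorem isIrreducible_preimage_component {T : Over (Spec (CommRingCat.of k))}
    (x : T ⟶ X) [IsIso T.hom] (t : T.left) {K : Type u} [Field K] [Algebra k K] :
    IsIrreducible ((pullback.fst X.hom (Spec.map (CommRingCat.ofHom (algebraMap k K)))).base ⁻¹'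
      irreducibleComponent (x.left t)) := by
  obtain ⟨D⟩ := nonempty_idComp G
  let u : Fpt (𝟙 (Spec (CommRingCat.of k))) ⟶ X := Over.homMk (inv T.hom ≫ x.left) (by simp)
  let p : Spec (CommRingCat.of k) := T.hom t
  have hu : u.left p = x.left t := by
    change (inv T.hom ≫ x.left) p = x.left t
    rw [Scheme.Hom.comp_apply, ← Scheme.Hom.comp_apply T.hom (inv T.hom), IsIso.hom_inv_id]
    rfl
  let f : D.obj ⟶ X := lift (𝟙 D.obj) (toUnit D.obj) ≫ psi a D u
  have hrange : Set.range f.left = irreducibleComponent (x.left t) := by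
    have h := component_eq_range_psi a hΦ D u p
    rw [hu] at h
    rw [h]
    refine subset_antisymm ?_ ?_
    · rintro _ ⟨z, rfl⟩
      exact ⟨(lift (𝟙 D.obj) (toUnit D.obj)).left z, by rw [← Scheme.Hom.comp_apply]; rfl⟩
    · rintro _ ⟨z, rfl⟩
      refine ⟨(fst D.obj (Fpt (𝟙 (Spec (CommRingCat.of k))))).left z, ?_⟩
      rw [← Scheme.Hom.comp_apply, ← Over.comp_left, ← Category.assoc, comp_lift, Category.comp_id,
        toUnit_unique (fst D.obj (Fpt (𝟙 (Spec (CommRingCat.of k)))) ≫ toUnit D.obj) (snd _ _)]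
      exact congr($(congrArg (fun m => (m ≫ psi a D u).left) lift_fst_snd) z).trans (by rw [Category.id_comp])
  let y := Spec.map (CommRingCat.ofHom (algebraMap k K))
  let j : pullback D.obj.hom y ⟶ pullback X.hom y :=
    pullback.map _ _ _ _ f.left (𝟙 _) (𝟙 _) (by simp [Over.w f]) (by simp)
  have hr : Set.range j = (pullback.fst X.hom y) ⁻¹' irreducibleComponent (x.left t) := by
    rw [Scheme.Pullback.range_map, hrange]
    simp
  have := D.geom
  have : IrreducibleSpace (Spec (CommRingCat.of K)) :=
    inferInstanceAs (IrreducibleSpace (PrimeSpectrum K))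
  have : IrreducibleSpace ↥(pullback D.obj.hom y) := inferInstance
  change IsIrreducible ((pullback.fst X.hom y) ⁻¹' _)
  rw [← hr, ← Set.image_univ]
  exact (IrreducibleSpace.isIrreducible_univ _).image _ j.continuous.continuousOn

end Groth.Agent.GrpComp
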