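import Groth.Agent.GrpComp.Compact

/-!
# Components of group schemes over an arbitrary field, without finiteness
-/

universe u
open CategoryTheory CategoryTheory.Limits MonoidalCategory CartesianMonoidalCategory MonObj
open AlgebraicGeometry Groth.Agent.GrpField

namespace Groth.Agent.GrpComp

attribute [local instance] Over.grpObjMkPullbackSnd

variable {k : Type u} [Field k] (G : Over (Spec (CommRingCat.of k))) [GrpObj G]

/-- the spectrum of an algebraic closure -/
noncomputable def acMap (k : Type u) [Field k] :
    Spec (CommRingCat.of (AlgebraicClosure k)) ⟶ Spec (CommRingCat.of k) :=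
  Spec.map (CommRingCat.ofHom (algebraMap k (AlgebraicClosure k)))

/-- the base change to an algebraic closure -/
noncomputable abbrev bc : Over (Spec (CommRingCat.of (AlgebraicClosure k))) :=
  Over.mk (pullback.snd G.hom (acMap k))

noncomputable instance : GrpObj (bc G) :=
  haveI : GrpObj (Over.mk G.hom) := inferInstanceAs (GrpObj G)
  Over.grpObjMkPullbackSnd

/-- the projection -/
noncomputable abbrev proj : (bc G).left ⟶ G.left := pullback.fst G.hom (acMap k)

instance : IsIntegralHom (acMap k) := IsIntegralHom.SpecMap_iff.2 Algebra.IsIntegral.isIntegral

instance : UniversallyOpen (acMap k) := PointBase.uopen _ _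

instance : Surjective (acMap k) := PointBase.surj _ _

instance : Flat (acMap k) := by
  rw [acMap, HasRingHomProperty.Spec_iff (P := @Flat)]
  exact RingHom.flat_algebraMap_iff.2 inferInstance

omit [GrpObj G] in
lemma exists_gen_over {x : G.left} {x' : (bc G).left} (hx' : proj G x' = x) {C : Set G.left}
    (hC : C ∈ irreducibleComponents G.left) (hx : x ∈ C) :
    ∃ a, a ⤳ x' ∧ closure {proj G a} = C := by
  obtain ⟨a, ha, hpa⟩ := Flat.generalizingMap (proj G)
    (show hC.1.genericPoint ⤳ proj G x' from specializes_iff_mem_closure.2 (by
      rw [hC.1.closure_genericPoint (isClosed_of_mem_irreducibleComponents C hC), hx']; exact hx))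
  exact ⟨a, ha, by rw [hpa, hC.1.closure_genericPoint (isClosed_of_mem_irreducibleComponents C hC)]⟩

/-- every point lies in a unique irreducible component -/
theorem eq_irreducibleComponent' {C : Set G.left} (hC : C ∈ irreducibleComponents G.left)
    {x : G.left} (hx : x ∈ C) : C = irreducibleComponent x := by
  obtain ⟨x', hx'⟩ := (proj G).surjective x
  have hI : IsIrreducible (irreducibleComponent x') := isIrreducible_irreducibleComponent
  let g := hI.genericPoint
  have hg : closure ({g} : Set (bc G).left) = irreducibleComponent x' :=
    hI.closure_genericPoint isClosed_irreducibleComponent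
  have key : ∀ D ∈ irreducibleComponents G.left, x ∈ D → D = closure {proj G g} := by
    intro D hD hxD
    obtain ⟨a, ha, hpa⟩ := exists_gen_over G hx' hD hxD
    have hga : g ⤳ a := specializes_iff_mem_closure.2 (by
      rw [hg, ← component_eq_of_specializes ha]; exact mem_irreducibleComponent)
    have hsub : D ⊆ closure {proj G g} := hpa ▸ closure_minimal (Set.singleton_subset_iff.2
      (specializes_iff_mem_closure.1 (hga.map (proj G).continuous))) isClosed_closure
    exact hsub.antisymm (hD.2 isIrreducible_singleton.closure hsub)
  rw [key C hC hx, key _ (irreducibleComponent_mem_irreducibleComponents x) mem_irreducibleComponent]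

lemma component_eq_of_mem' {x y : G.left} (h : y ∈ irreducibleComponent x) :
    irreducibleComponent x = irreducibleComponent y :=
  eq_irreducibleComponent' G (irreducibleComponent_mem_irreducibleComponents x) h

/-- the preimage of the connected component of the unit is connected -/
theorem preimage_connectedComponent_ept :
    ∃ z, proj G z = ept G ∧
      proj G ⁻¹' connectedComponent (ept G) = connectedComponent z := by
  obtain ⟨z, hz⟩ := (proj G).surjective (ept G)
  refine ⟨z, hz, subset_antisymm ?_ ?_⟩
  · have hsing : (proj G ⁻¹' {ept G}).Subsingleton :=
      subsingleton_preimage_section G.hom (acMap k) η[G].left (Over.w η[G])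
        (IsLocalRing.closedPoint k)
    refine IsPreconnected.subset_connectedComponent ?_ (Set.mem_preimage.2 (by rw [hz]; exact mem_connectedComponent))
    exact (GeomConn.isConnected_preimage_of_fibre (K := AlgebraicClosure k) G.hom
      isClosed_connectedComponent isConnected_connectedComponent mem_connectedComponent
      (D := {z}) isPreconnected_singleton
      (Set.singleton_subset_iff.2 (show proj G z ∈ connectedComponent (ept G) by
        rw [hz]; exact mem_connectedComponent))
      (fun w hw => hsing hw hz)).isPreconnected
  · refine Set.image_subset_iff.1 ?_
    exact hz ▸ (proj G).continuous.image_connectedComponent_subset z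

/-- the connected component of the unit is irreducible and quasi-compact -/
theorem connectedComponent_ept :
    connectedComponent (ept G) = irreducibleComponent (ept G) ∧
      IsCompact (connectedComponent (ept G)) := by
  obtain ⟨z, hz, hpre⟩ := preimage_connectedComponent_ept G
  have himg : connectedComponent (ept G) = proj G '' connectedComponent z := by
    rw [← hpre, Set.image_preimage_eq _ (proj G).surjective]
  refine ⟨subset_antisymm ?_ (isIrreducible_irreducibleComponent.2.isPreconnected.subset_connectedComponent
    mem_irreducibleComponent), ?_⟩
  · have hirr : IsIrreducible (connectedComponent (ept G)) := by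
      rw [himg, connectedComponent_eq]
      exact isIrreducible_irreducibleComponent.image _ (proj G).continuous.continuousOn
    obtain ⟨D, hD, hle⟩ := exists_mem_irreducibleComponents_subset_of_isIrreducible _ hirr
    exact eq_irreducibleComponent' G hD (hle mem_connectedComponent) ▸ hle
  · obtain ⟨U, hU, hzU, -⟩ :=
      exists_isAffineOpen_mem_and_subset (show z ∈ (⊤ : (bc G).left.Opens) from trivial)
    rw [himg]
    refine IsCompact.image ((isCompact_closure U hU.isCompact).of_isClosed_subset
      isClosed_connectedComponent ?_) (proj G).continuous
    exact (isClopen_closure U hU.isCompact).connectedComponent_subset (subset_closure hzU)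

/-- the closure of a quasi-compact open is clopen and quasi-compact -/
theorem isClopen_closure' (O : G.left.Opens) (hO : IsCompact (O : Set G.left)) :
    IsClopen (closure (O : Set G.left)) ∧ IsCompact (closure (O : Set G.left)) := by
  let O' : (bc G).left.Opens := proj G ⁻¹ᵁ O
  have hO' : IsCompact (O' : Set (bc G).left) :=
    QuasiCompact.isCompact_preimage (f := proj G) _ O.2 hO
  have hpre : proj G ⁻¹' closure (O : Set G.left) = closure (O' : Set (bc G).left) :=
    (proj G).isOpenMap.preimage_closure_eq_closure_preimage (proj G).continuous _
  have himg : closure (O : Set G.left) = proj G '' closure (O' : Set (bc G).left) := by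
    rw [← hpre, Set.image_preimage_eq _ (proj G).surjective]
  refine ⟨⟨isClosed_closure, ?_⟩, ?_⟩
  · rw [himg]; exact (proj G).isOpenMap _ (isClopen_closure O' hO').isOpen
  · rw [himg]; exact (isCompact_closure O' hO').image (proj G).continuous

end Groth.Agent.GrpComp
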