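import Groth.Agent.GrpComp.Prod
import Groth.Agent.DomLib.Basic
import Groth.Agent.ClosedRep.Over

/-!
# Irreducible components of group schemes over an algebraically closed field, without finiteness
-/

universe u
open CategoryTheory CategoryTheory.Limits MonoidalCategory CartesianMonoidalCategory MonObj
open AlgebraicGeometry Groth.Agent.GrpField

namespace Groth.Agent.GrpComp

variable {k : Type u} [Field k] {G : Over (Spec (CommRingCat.of k))} [GrpObj G]

variable (G) in
/-- the unit point -/
noncomputable def ept : G.left :=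
  η[G].left (IsLocalRing.closedPoint k)

variable (G) in
/-- the component through the unit -/
noncomputable def Z0 : Set G.left := irreducibleComponent (ept G)

lemma one_apply {T : Over (Spec (CommRingCat.of k))} (t : T.left) :
    (1 : T ⟶ G).left t = ept G := by
  have : Subsingleton (Spec (CommRingCat.of k)) := inferInstanceAs (Subsingleton (PrimeSpectrum k))
  rw [Hom.one_def, Over.comp_left, Scheme.Hom.comp_apply, ept]
  exact congrArg η[G].left (Subsingleton.elim (α := Spec (CommRingCat.of k)) _ _)

/-- the set of products -/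
def mulSet (C D : Set G.left) : Set G.left := μ[G].left '' box C D

/-- the set of quotients -/
def divSet (C D : Set G.left) : Set G.left := (fst G G * (snd G G)⁻¹).left '' box C D

lemma mul_mem_mulSet {C D : Set G.left} {T : Over (Spec (CommRingCat.of k))} (a b : T ⟶ G)
    (t : T.left) (ha : a.left t ∈ C) (hb : b.left t ∈ D) : (a * b).left t ∈ mulSet C D :=
  ⟨(lift a b).left t, mem_box a b t ha hb, by
    rw [← Scheme.Hom.comp_apply, ← Over.comp_left, ← Hom.mul_def]⟩

lemma div_mem_divSet {C D : Set G.left} {T : Over (Spec (CommRingCat.of k))} (a b : T ⟶ G)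
    (t : T.left) (ha : a.left t ∈ C) (hb : b.left t ∈ D) : (a * b⁻¹).left t ∈ divSet C D :=
  ⟨(lift a b).left t, mem_box a b t ha hb, by
    rw [← Scheme.Hom.comp_apply, ← Over.comp_left, MonObj.comp_mul, GrpObj.comp_inv, lift_fst,
      lift_snd]⟩

lemma mem_mulSet {C D : Set G.left} {y : G.left} (h : y ∈ mulSet C D) :
    ∃ (T : Over (Spec (CommRingCat.of k))) (_ : IsPt T) (a b : T ⟶ G),
      (∀ t, a.left t ∈ C) ∧ (∀ t, b.left t ∈ D) ∧ ∀ t, (a * b).left t = y := by
  obtain ⟨z, hz, rfl⟩ := h
  obtain ⟨T, hT, w, hw⟩ := exists_pt z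
  refine ⟨T, hT, w ≫ fst G G, w ≫ snd G G, fun t => ?_, fun t => ?_, fun t => ?_⟩
  · rw [Over.comp_left, Scheme.Hom.comp_apply, hw]; exact hz.1
  · rw [Over.comp_left, Scheme.Hom.comp_apply, hw]; exact hz.2
  · rw [← MonObj.comp_mul, Hom.mul_def, lift_fst_snd, Category.id_comp, Over.comp_left,
      Scheme.Hom.comp_apply, hw]

section
variable [IsAlgClosed k]

lemma isIrreducible_mulSet {C D : Set G.left} (hC : C ∈ irreducibleComponents G.left)
    (hD : D ∈ irreducibleComponents G.left) : IsIrreducible (mulSet C D) :=
  (isIrreducible_box hC.1 (isClosed_of_mem_irreducibleComponents C hC) hD.1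
    (isClosed_of_mem_irreducibleComponents D hD)).image _ μ[G].left.continuous.continuousOn

lemma component_unique_one {C : Set G.left} (hC : C ∈ irreducibleComponents G.left)
    (he : ept G ∈ C) : C = Z0 G := by
  have hZ := irreducibleComponent_mem_irreducibleComponents (ept G)
  have hP := isIrreducible_mulSet hC hZ
  have h1 : C ⊆ mulSet C (Z0 G) := fun c hc => by
    obtain ⟨T, hT, a, ha⟩ := exists_pt c
    obtain ⟨t⟩ := IsPt.nonempty T
    have := mul_mem_mulSet (C := C) (D := Z0 G) a 1 t (ha t ▸ hc)
      (by rw [one_apply]; exact mem_irreducibleComponent)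
    rwa [_root_.mul_one, ha] at this
  have h2 : Z0 G ⊆ mulSet C (Z0 G) := fun c hc => by
    obtain ⟨T, hT, a, ha⟩ := exists_pt c
    obtain ⟨t⟩ := IsPt.nonempty T
    have := mul_mem_mulSet (C := C) (D := Z0 G) 1 a t
      (by rw [one_apply]; exact he) (ha t ▸ hc)
    rwa [_root_.one_mul, ha] at this
  exact (h1.antisymm (hC.2 hP h1)).trans (h2.antisymm (hZ.2 hP h2)).symm

lemma divSet_self_subset {C : Set G.left} (hC : C ∈ irreducibleComponents G.left) :
    divSet C C ⊆ Z0 G := by
  have hc := isClosed_of_mem_irreducibleComponents C hC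
  have hP : IsIrreducible (divSet C C) :=
    (isIrreducible_box hC.1 hc hC.1 hc).image _
      (fst G G * (snd G G)⁻¹).left.continuous.continuousOn
  have he : ept G ∈ divSet C C := by
    obtain ⟨c, hcC⟩ := hC.1.1
    obtain ⟨T, hT, a, ha⟩ := exists_pt c
    obtain ⟨t⟩ := IsPt.nonempty T
    have := div_mem_divSet a a t (ha t ▸ hcC) (ha t ▸ hcC)
    rwa [mul_inv_cancel, one_apply] at this
  obtain ⟨D', hD', hle⟩ := (exists_mem_irreducibleComponents_subset_of_isIrreducible _ hP)
  exact component_unique_one hD' (hle he) ▸ hle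

lemma mulSet_Z0_subset {D : Set G.left} (hD : D ∈ irreducibleComponents G.left) :
    mulSet (Z0 G) D ⊆ D := by
  refine hD.2 (isIrreducible_mulSet (irreducibleComponent_mem_irreducibleComponents _) hD)
    fun c hc => ?_
  obtain ⟨T, hT, a, ha⟩ := exists_pt c
  obtain ⟨t⟩ := IsPt.nonempty T
  have := mul_mem_mulSet (C := Z0 G) (D := D) 1 a t
    (by rw [one_apply]; exact mem_irreducibleComponent) (ha t ▸ hc)
  rwa [_root_.one_mul, ha] at this

/-- every point lies in a unique irreducible component -/
theorem eq_irreducibleComponent {C : Set G.left} (hC : C ∈ irreducibleComponents G.left)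
    {x : G.left} (hx : x ∈ C) : C = irreducibleComponent x := by
  have h : C ⊆ irreducibleComponent x := fun c hc => by
    obtain ⟨T, hT, a, b, ha, hb⟩ := exists_pt₂ c x
    obtain ⟨t⟩ := IsPt.nonempty T
    have hz := divSet_self_subset hC (div_mem_divSet a b t (ha t ▸ hc) (hb t ▸ hx))
    have := mulSet_Z0_subset (irreducibleComponent_mem_irreducibleComponents x)
      (mul_mem_mulSet (a * b⁻¹) b t hz (hb t ▸ mem_irreducibleComponent))
    rwa [inv_mul_cancel_right, ha] at this
  exact h.antisymm (hC.2 isIrreducible_irreducibleComponent h)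

lemma component_eq_of_mem {x y : G.left} (h : y ∈ irreducibleComponent x) :
    irreducibleComponent x = irreducibleComponent y :=
  eq_irreducibleComponent (irreducibleComponent_mem_irreducibleComponents x) h

lemma component_eq_of_specializes {x y : G.left} (h : x ⤳ y) :
    irreducibleComponent x = irreducibleComponent y :=
  component_eq_of_mem (h.mem_closed isClosed_irreducibleComponent mem_irreducibleComponent)

lemma Z0_mul_mem {T : Over (Spec (CommRingCat.of k))} (a b : T ⟶ G) (t : T.left)
    (ha : a.left t ∈ Z0 G) :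
    irreducibleComponent ((a * b).left t) = irreducibleComponent (b.left t) :=
  (component_eq_of_mem (mulSet_Z0_subset (irreducibleComponent_mem_irreducibleComponents _)
    (mul_mem_mulSet a b t ha mem_irreducibleComponent))).symm

lemma mem_closure_iff_component (O : G.left.Opens) (hO : IsCompact (O : Set G.left)) (y : G.left) :
    y ∈ closure (O : Set G.left) ↔
      ∃ x ∈ O, irreducibleComponent x = irreducibleComponent y := by
  constructor
  · intro hy
    have := ClosedRep.isSeparated_of_field k G
    have : CompactSpace O := isCompact_iff_compactSpace.mp hO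
    have : QuasiCompact (O.ι ≫ G.hom) := (quasiCompact_iff_compactSpace _).2 ‹_›
    have : QuasiCompact O.ι := QuasiCompact.of_comp O.ι G.hom
    obtain ⟨x, hx⟩ := DomLib.exists_specializes O.ι (y := y) (by rwa [O.range_ι])
    exact ⟨O.ι x, x.2, component_eq_of_specializes hx⟩
  · rintro ⟨x, hx, he⟩
    have h : irreducibleComponent x ⊆ closure (irreducibleComponent x ∩ O) :=
      subset_closure_inter_of_isPreirreducible_of_isOpen isIrreducible_irreducibleComponent.2 O.2
        ⟨x, mem_irreducibleComponent, hx⟩
    exact closure_mono Set.inter_subset_right (h (he ▸ mem_irreducibleComponent))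

theorem closure_eq_mulSet (O : G.left.Opens) (hO : IsCompact (O : Set G.left)) :
    closure (O : Set G.left) = mulSet (Z0 G) O := by
  refine subset_antisymm (fun y hy => ?_) fun y hy => ?_
  · obtain ⟨x, hx, he⟩ := (mem_closure_iff_component O hO y).1 hy
    obtain ⟨T, hT, a, b, ha, hb⟩ := exists_pt₂ y x
    obtain ⟨t⟩ := IsPt.nonempty T
    have := mul_mem_mulSet (D := (O : Set G.left)) (a * b⁻¹) b t
      (divSet_self_subset (irreducibleComponent_mem_irreducibleComponents y)
        (div_mem_divSet a b t (ha t ▸ mem_irreducibleComponent)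
          (hb t ▸ he ▸ mem_irreducibleComponent))) (hb t ▸ hx)
    rwa [inv_mul_cancel_right, ha] at this
  · obtain ⟨T, hT, a, b, ha, hb, hab⟩ := mem_mulSet hy
    obtain ⟨t⟩ := IsPt.nonempty T
    exact (mem_closure_iff_component O hO y).2
      ⟨_, hb t, hab t ▸ (Z0_mul_mem a b t (ha t)).symm⟩

/-- the closure of a quasi-compact open is open -/
theorem isClopen_closure (O : G.left.Opens) (hO : IsCompact (O : Set G.left)) :
    IsClopen (closure (O : Set G.left)) := by
  refine ⟨isClosed_closure, isOpen_iff_forall_mem_open.2 fun y hy => ?_⟩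
  obtain ⟨T, hT, z, b, hz, hb, hab⟩ := mem_mulSet (closure_eq_mulSet O hO ▸ hy)
  obtain ⟨t⟩ := IsPt.nonempty T
  refine ⟨(fst G T).left '' (homeo (trL z) '' ((fst G T).left ⁻¹' O)), ?_,
    isOpenMap_fst _ ((homeo _).isOpenMap _ (O.2.preimage (fst G T).left.continuous)), ?_⟩
  · rintro _ ⟨_, ⟨w, hw, rfl⟩, rfl⟩
    obtain ⟨T', hT', v, hv⟩ := exists_pt w
    obtain ⟨t'⟩ := IsPt.nonempty T'
    rw [closure_eq_mulSet O hO]
    have he : v ≫ (trL z).hom ≫ fst G T = ((v ≫ snd G T) ≫ z) * (v ≫ fst G T) := by
      simp [trL, MonObj.comp_mul]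
    have := mul_mem_mulSet (C := Z0 G) (D := (O : Set G.left)) ((v ≫ snd G T) ≫ z) (v ≫ fst G T) t'
      (hz _) (by rw [Over.comp_left, Scheme.Hom.comp_apply, hv]; exact hw)
    rw [← he, Over.comp_left, Over.comp_left, Scheme.Hom.comp_apply, Scheme.Hom.comp_apply, hv]
      at this
    exact this
  · refine ⟨_, ⟨(lift b (𝟙 T)).left t, ?_, rfl⟩, ?_⟩
    · rw [Set.mem_preimage, ← Scheme.Hom.comp_apply, ← Over.comp_left, lift_fst]; exact hb t
    · rw [homeo_apply, ← Scheme.Hom.comp_apply, ← Scheme.Hom.comp_apply, ← Over.comp_left,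
        ← Over.comp_left, show lift b (𝟙 T) ≫ (trL z).hom ≫ fst G T = z * b by
          simp [trL, MonObj.comp_mul], hab]

/-- connected components are irreducible components -/
theorem connectedComponent_eq (x : G.left) : connectedComponent x = irreducibleComponent x := by
  refine subset_antisymm (fun y hy => ?_)
    (isIrreducible_irreducibleComponent.2.isPreconnected.subset_connectedComponent
      mem_irreducibleComponent)
  by_contra hne
  have hI : IsIrreducible (irreducibleComponent x) := isIrreducible_irreducibleComponent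
  have hg : hI.genericPoint ∈ irreducibleComponent x :=
    (hI.closure_genericPoint isClosed_irreducibleComponent).le (subset_closure rfl)
  have hgy : hI.genericPoint ∉ irreducibleComponent y := fun h => hne <| by
    rw [component_eq_of_mem hg, ← component_eq_of_mem h]
    exact mem_irreducibleComponent
  obtain ⟨V, hV, hgV, hVy⟩ := exists_isAffineOpen_mem_and_subset
    (U := ⟨(irreducibleComponent y)ᶜ, isClosed_irreducibleComponent.isOpen_compl⟩) hgy
  have hx : x ∈ closure (V : Set G.left) :=
    (mem_closure_iff_component V hV.isCompact x).2 ⟨_, hgV, (component_eq_of_mem hg).symm⟩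
  obtain ⟨v, hv, hvy⟩ := (mem_closure_iff_component V hV.isCompact y).1
    ((isClopen_closure V hV.isCompact).connectedComponent_subset hx hy)
  exact hVy hv (hvy ▸ mem_irreducibleComponent)

end

end Groth.Agent.GrpComp
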