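import Groth.Agent.GrpComp.AlgClosed

/-!
# Quasi-compactness of components
-/

universe u
open CategoryTheory CategoryTheory.Limits MonoidalCategory CartesianMonoidalCategory MonObj
open AlgebraicGeometry Groth.Agent.GrpField

namespace Groth.Agent.GrpComp

variable {k : Type u} [Field k] {G : Over (Spec (CommRingCat.of k))} [GrpObj G]

omit [GrpObj G] in
lemma isCompact_box {X : Over (Spec (CommRingCat.of k))} (U : G.left.Opens) (hU : IsAffineOpen U)
    (V : X.left.Opens) (hV : IsAffineOpen V) :
    IsCompact (box (U : Set G.left) (V : Set X.left)) := by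
  have : IsAffine U.toScheme := hU
  have : IsAffine V.toScheme := hV
  let U' : Over (Spec (CommRingCat.of k)) := Over.mk (U.ι ≫ G.hom)
  let V' : Over (Spec (CommRingCat.of k)) := Over.mk (V.ι ≫ X.hom)
  let i : U' ⟶ G := Over.homMk U.ι rfl
  let j : V' ⟶ X := Over.homMk V.ι rfl
  have h : box (U : Set G.left) (V : Set X.left) = Set.range (i ⊗ₘ j).left := by
    refine subset_antisymm (fun z hz => mem_range_map i j z ?_ ?_) ?_
    · change _ ∈ Set.range U.ι
      rw [U.range_ι]; exact hz.1
    · change _ ∈ Set.range V.ι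
      rw [V.range_ι]; exact hz.2
    · rintro _ ⟨w, rfl⟩
      constructor
      · rw [Set.mem_preimage, ← Scheme.Hom.comp_apply, ← Over.comp_left, tensorHom_fst,
          Over.comp_left, Scheme.Hom.comp_apply]
        exact ((fst U' V').left w).2
      · rw [Set.mem_preimage, ← Scheme.Hom.comp_apply, ← Over.comp_left, tensorHom_snd,
          Over.comp_left, Scheme.Hom.comp_apply]
        exact ((snd U' V').left w).2
  have : IsAffine U'.left := inferInstanceAs (IsAffine U.toScheme)
  have : IsAffine V'.left := inferInstanceAs (IsAffine V.toScheme)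
  have : IsAffine (U' ⊗ V').left := inferInstanceAs (IsAffine (pullback U'.hom V'.hom))
  rw [h]
  exact isCompact_range (i ⊗ₘ j).left.continuous

section
variable [IsAlgClosed k]

/-- the component through the unit is quasi-compact -/
theorem isCompact_Z0 : IsCompact (Z0 G) := by
  obtain ⟨U, hU, heU, -⟩ :=
    exists_isAffineOpen_mem_and_subset (show ept G ∈ (⊤ : G.left.Opens) from trivial)
  have hc : IsCompact (μ[G].left '' box (U : Set G.left) (U : Set G.left)) :=
    (isCompact_box U hU U hU).image μ[G].left.continuous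
  refine hc.of_isClosed_subset isClosed_irreducibleComponent fun y hy => ?_
  obtain ⟨T, hT, gam, hgam⟩ := exists_pt y
  obtain ⟨t⟩ := IsPt.nonempty T
  have := IsPt.single T
  let p := (fst G T).left
  have hP : IsIrreducible (p ⁻¹' Z0 G) := by
    have : IsIrreducible (Set.univ : Set T.left) :=
      ⟨⟨t, trivial⟩, (Set.subsingleton_univ).isPreirreducible⟩
    have h := isIrreducible_box (X := G) (Y := T) (C := Z0 G) isIrreducible_irreducibleComponent
      isClosed_irreducibleComponent this isClosed_univ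
    rwa [box, Set.preimage_univ, Set.inter_univ] at h
  obtain ⟨w, -, hw₁, hw₂⟩ := hP.2 (p ⁻¹' U) (homeo (trI gam) ⁻¹' (p ⁻¹' U))
    (U.2.preimage p.continuous) ((U.2.preimage p.continuous).preimage (homeo _).continuous)
    ⟨(lift 1 (𝟙 T) : T ⟶ G ⊗ T).left t, by
      rw [Set.mem_preimage, ← Scheme.Hom.comp_apply, ← Over.comp_left, lift_fst, one_apply]
      exact mem_irreducibleComponent, by
      rw [Set.mem_preimage, ← Scheme.Hom.comp_apply, ← Over.comp_left, lift_fst, one_apply]
      exact heU⟩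
    ⟨(lift gam (𝟙 T)).left t, by
      rw [Set.mem_preimage, ← Scheme.Hom.comp_apply, ← Over.comp_left, lift_fst, hgam]
      exact hy, by
      rw [Set.mem_preimage, Set.mem_preimage, homeo_apply, ← Scheme.Hom.comp_apply,
        ← Scheme.Hom.comp_apply, ← Over.comp_left, ← Over.comp_left,
        show lift gam (𝟙 T) ≫ (trI gam).hom ≫ fst G T = 1 by simp [trI, MonObj.comp_mul, GrpObj.comp_inv],
        one_apply]
      exact heU⟩
  obtain ⟨T', hT', v, hv⟩ := exists_pt w
  obtain ⟨t'⟩ := IsPt.nonempty T'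
  refine ⟨(lift (v ≫ fst G T) (v ≫ (trI gam).hom ≫ fst G T)).left t', mem_box _ _ t' ?_ ?_, ?_⟩
  · rw [Over.comp_left, Scheme.Hom.comp_apply, hv]; exact hw₁
  · rw [Over.comp_left, Over.comp_left, Scheme.Hom.comp_apply, Scheme.Hom.comp_apply, hv]
    exact hw₂
  · rw [← Scheme.Hom.comp_apply, ← Over.comp_left, ← Hom.mul_def,
      show (v ≫ fst G T) * (v ≫ (trI gam).hom ≫ fst G T) = (v ≫ snd G T) ≫ gam by
        simp [trI, MonObj.comp_mul, GrpObj.comp_inv], Over.comp_left, Scheme.Hom.comp_apply, hgam]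

/-- the closure of a quasi-compact open is quasi-compact -/
theorem isCompact_closure (O : G.left.Opens) (hO : IsCompact (O : Set G.left)) :
    IsCompact (closure (O : Set G.left)) := by
  rw [closure_eq_mulSet O hO]
  refine IsCompact.image ?_ μ[G].left.continuous
  -- a finite cover by products of affines
  obtain ⟨s, hs, hsO⟩ := (isCompact_and_isOpen_iff_finite_and_eq_biUnion_affineOpens (X := G.left)).1
    ⟨hO, O.2⟩
  obtain ⟨t, ht⟩ := (isCompact_Z0 (G := G)).elim_finite_subcover
    (fun U : G.left.affineOpens => (U.1 : Set G.left)) (fun U => U.1.2) (fun z _ => by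
      obtain ⟨V, hV, hzV, -⟩ :=
        exists_isAffineOpen_mem_and_subset (show z ∈ (⊤ : G.left.Opens) from trivial)
      exact Set.mem_iUnion.2 ⟨⟨V, hV⟩, hzV⟩)
  have hB : IsCompact (⋃ U ∈ (t : Set G.left.affineOpens), ⋃ V ∈ s,
      box (U.1 : Set G.left) (V.1 : Set G.left)) :=
    t.finite_toSet.isCompact_biUnion fun U _ => hs.isCompact_biUnion fun V _ =>
      isCompact_box U.1 U.2 V.1 V.2
  convert hB.inter_right ((isClosed_irreducibleComponent (x := ept G)).preimage
    (fst G G).left.continuous) using 1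
  refine subset_antisymm (α := Set (G ⊗ G).left) (fun z hz => ⟨?_, hz.1⟩) fun z hz => ⟨hz.2, ?_⟩
  · obtain ⟨U, hU, hzU⟩ := Set.mem_iUnion₂.1 (ht hz.1)
    obtain ⟨V, hV, hzV⟩ := Set.mem_iUnion₂.1 (hsO ▸ hz.2)
    exact Set.mem_biUnion hU (Set.mem_biUnion hV ⟨hzU, hzV⟩)
  · obtain ⟨U, -, hz'⟩ := Set.mem_iUnion₂.1 hz.1
    obtain ⟨V, hV, hzV⟩ := Set.mem_iUnion₂.1 hz'
    rw [hsO]
    exact Set.mem_biUnion hV hzV.2

end

end Groth.Agent.GrpComp
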