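import Groth.Agent.GrpComp.Field

/-!
# Geometric irreducibility of the identity component
-/

universe u
open CategoryTheory CategoryTheory.Limits MonoidalCategory CartesianMonoidalCategory MonObj
open AlgebraicGeometry Groth.Agent.GrpField

namespace Groth.Agent.GrpComp

variable {k : Type u} [Field k] (G : Over (Spec (CommRingCat.of k))) [GrpObj G]

/-- a space embedded onto an irreducible subset is irreducible -/
theorem irreducibleSpace_of_inducing {α β : Type*} [TopologicalSpace α] [TopologicalSpace β]
    {f : α → β} (hf : Topology.IsInducing f) (h : IsIrreducible (Set.range f)) :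
    IrreducibleSpace α := by
  obtain ⟨⟨_, a, rfl⟩, hpre⟩ := h
  refine (irreducibleSpace_def _).2 ⟨⟨a, trivial⟩, fun u v hu hv hu' hv' => ?_⟩
  obtain ⟨U, hU, rfl⟩ := hf.isOpen_iff.1 hu
  obtain ⟨V, hV, rfl⟩ := hf.isOpen_iff.1 hv
  obtain ⟨x, -, hx⟩ := hu'
  obtain ⟨y, -, hy⟩ := hv'
  obtain ⟨_, ⟨c, rfl⟩, hcU, hcV⟩ := hpre U V hU hV ⟨_, ⟨x, rfl⟩, hx⟩ ⟨_, ⟨y, rfl⟩, hy⟩
  exact ⟨c, trivial, hcU, hcV⟩

set_option backward.isDefEq.respectTransparency false in
/-- the identity component stays irreducible over every extension -/
theorem isIrreducible_preimage_ept {K : Type u} [Field K] [Algebra k K] :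
    IsIrreducible ((pullback.fst G.hom (Spec.map (CommRingCat.ofHom (algebraMap k K)))) ⁻¹'
      connectedComponent (ept G)) := by
  let k' := AlgebraicClosure k
  let L := AlgebraicClosure K
  let φ : k' →ₐ[k] L := IsAlgClosed.lift
  let := φ.toRingHom.toAlgebra
  let g := Spec.map (CommRingCat.ofHom (algebraMap k k'))
  let v := Spec.map (CommRingCat.ofHom (algebraMap k' L))
  let w := Spec.map (CommRingCat.ofHom (algebraMap k K))
  let r := Spec.map (CommRingCat.ofHom (algebraMap K L))
  have : Surjective r := PointBase.surj L r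
  have e : v ≫ g = r ≫ w := by
    rw [← Spec.map_comp, ← Spec.map_comp]
    congr 1
    ext a
    exact (φ.commutes a).trans (IsScalarTower.algebraMap_apply k K L a)
  obtain ⟨z, hz, hpre⟩ := preimage_connectedComponent_ept G
  have hC : IsIrreducible ((pullback.fst G.hom g) ⁻¹' connectedComponent (ept G)) := by
    change IsIrreducible (proj G ⁻¹' connectedComponent (ept G))
    rw [hpre, connectedComponent_eq]
    exact isIrreducible_irreducibleComponent
  have h1 := GeomConn.isIrreducible_preimage_fst (k := k') (K := L) (pullback.snd G.hom g) hC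
  let q : pullback (pullback.snd G.hom g) v ⟶ pullback G.hom w :=
    (pullbackLeftPullbackSndIso G.hom g v).hom ≫ (pullback.congrHom rfl e).hom ≫
      (pullbackLeftPullbackSndIso G.hom w r).inv ≫ pullback.fst _ r
  have hq : q ≫ pullback.fst G.hom w =
      pullback.fst (pullback.snd G.hom g) v ≫ pullback.fst G.hom g := by simp [q]
  have : Surjective q := inferInstance
  have h2 := h1.image q q.continuous.continuousOn
  have heq : q '' ((pullback.fst (pullback.snd G.hom g) v).base ⁻¹'
      ((pullback.fst G.hom g) ⁻¹' connectedComponent (ept G))) =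
      (pullback.fst G.hom w) ⁻¹' connectedComponent (ept G) := by
    rw [← Set.image_preimage_eq ((pullback.fst G.hom w) ⁻¹' connectedComponent (ept G)) q.surjective]
    congr 1
    ext x
    simp only [Set.mem_preimage, ← Scheme.Hom.comp_apply, hq]
  rw [heq] at h2
  exact h2

/-- a scheme structure on the identity component is geometrically irreducible -/
theorem geometricallyIrreducible_of_range {Z : Scheme.{u}} (i : Z ⟶ G.left) [IsClosedImmersion i]
    (hi : Set.range i = connectedComponent (ept G)) : GeometricallyIrreducible (i ≫ G.hom) := by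
  refine ⟨geometrically_iff_of_isClosedUnderIsomorphisms.mpr fun K _ y => ?_⟩
  obtain ⟨φ, rfl⟩ := Spec.map_surjective y
  let : Algebra k K := φ.hom.toAlgebra
  let j : pullback (i ≫ G.hom) (Spec.map φ) ⟶ pullback G.hom (Spec.map φ) :=
    pullback.map _ _ _ _ i (𝟙 _) (𝟙 _) (by simp) (by simp)
  have hr : Set.range j = (pullback.fst G.hom (Spec.map φ)) ⁻¹' connectedComponent (ept G) := by
    rw [Scheme.Pullback.range_map, hi]
    simp
  have : IsClosedImmersion j :=
    MorphismProperty.pullbackMap (P := @IsClosedImmersion) (show IsClosedImmersion i from ‹_›)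
      (show IsClosedImmersion (𝟙 _) from inferInstance) rfl (Category.id_comp _).symm
  exact irreducibleSpace_of_inducing j.isClosedEmbedding.isEmbedding.isInducing
    (hr ▸ isIrreducible_preimage_ept G (K := K))

end Groth.Agent.GrpComp
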