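import Groth.Agent.GrpComp.Orbit

/-!
# Components of homogeneous spaces
-/

universe u
open CategoryTheory CategoryTheory.Limits MonoidalCategory CartesianMonoidalCategory MonObj
open AlgebraicGeometry Groth.Agent.GrpField

namespace Groth.Agent.GrpComp

/-- the identity component subgroup, as data -/
structure IdComp {k : Type u} [Field k] (G : Over (Spec (CommRingCat.of k))) [GrpObj G] where
  obj : Over (Spec (CommRingCat.of k))
  grp : GrpObj obj
  incl : obj ⟶ G
  hom : IsMonHom incl
  closed : IsClosedImmersion incl.left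
  flat : Flat incl.left
  range : Set.range incl.left = connectedComponent (ept G)
  geom : GeometricallyIrreducible obj.hom
  compact : CompactSpace obj.left

theorem nonempty_idComp {k : Type u} [Field k] (G : Over (Spec (CommRingCat.of k))) [GrpObj G] :
    Nonempty (IdComp G) := by
  obtain ⟨G₀, h1, incl, h2, h3, h4, h5, h6, h7, -⟩ := exists_identity_subgroup G
  exact ⟨⟨G₀, h1, incl, h2, h3, h4, h5, h6, h7⟩⟩

variable {k : Type u} [Field k] {G X : Over (Spec (CommRingCat.of k))} [GrpObj G]
  (a : AlgGrp.Action G X)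

/-- translation of `X` by a point -/
noncomputable def trX {T : Over (Spec (CommRingCat.of k))} (c : T ⟶ G) : X ⊗ T ≅ X ⊗ T where
  hom := lift (lift (snd X T ≫ c) (fst X T) ≫ a.act) (snd X T)
  inv := lift (lift (snd X T ≫ c⁻¹) (fst X T) ≫ a.act) (snd X T)
  hom_inv_id := by
    apply CartesianMonoidalCategory.hom_ext
    · simp [GrpAct.comp_smul, ← GrpAct.mul_smul, GrpObj.comp_inv, GrpAct.one_smul']
    · simp
  inv_hom_id := by
    apply CartesianMonoidalCategory.hom_ext
    · simp [GrpAct.comp_smul, ← GrpAct.mul_smul, GrpObj.comp_inv, GrpAct.one_smul']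
    · simp

lemma lift_trX {T T' : Over (Spec (CommRingCat.of k))} (c : T ⟶ G) (u : T' ⟶ X) (v : T' ⟶ T) :
    lift u v ≫ (trX a c).hom = lift (lift (v ≫ c) u ≫ a.act) v := by
  apply CartesianMonoidalCategory.hom_ext <;> simp [trX, GrpAct.comp_smul]

lemma trX_apply {T : Over (Spec (CommRingCat.of k))} (c : T ⟶ G) (u : T ⟶ X) (t : T.left) :
    homeo (trX a c) ((lift u (𝟙 T)).left t) = (lift (lift c u ≫ a.act) (𝟙 T)).left t := by
  rw [homeo_apply, ← Scheme.Hom.comp_apply, ← Over.comp_left, lift_trX, Category.id_comp]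

section
variable (hΦ : Surjective (lift a.act (snd G X)).left)
include hΦ

/-- two points are related by a point of the group, after extension -/
lemma exists_smul_eq {T : Over (Spec (CommRingCat.of k))} [IsPt T] (u u' : T ⟶ X) :
    ∃ (K : Type u) (_ : Field K) (_ : IsAlgClosed K)
      (g : Spec (CommRingCat.of K) ⟶ Spec (CommRingCat.of k)) (v : Fpt g ⟶ T) (c : Fpt g ⟶ G),
      lift c (v ≫ u) ≫ a.act = v ≫ u' := by
  obtain ⟨t⟩ := IsPt.nonempty T
  obtain ⟨T', hT', v, x, hx⟩ :=
    exists_lift_pt (lift a.act (snd G X)) (lift u' u) t (hΦ.surj _)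
  obtain ⟨K, _, _, g, w, -⟩ := exists_fpt_algClosed T'
  refine ⟨K, inferInstance, inferInstance, g, w ≫ v, w ≫ x ≫ fst G X, ?_⟩
  have h1 : x ≫ a.act = v ≫ u' := by simpa using hx =≫ fst X X
  have h2 : x ≫ snd G X = v ≫ u := by simpa using hx =≫ snd X X
  rw [Category.assoc, ← comp_lift, Category.assoc, ← h2, ← comp_lift, lift_fst_snd,
    Category.comp_id, h1]
  simp

/-- after extension to an algebraically closed field, components through a point are unique -/
theorem uniq_tensor {L : Type u} [Field L] [IsAlgClosed L]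
    (g₀ : Spec (CommRingCat.of L) ⟶ Spec (CommRingCat.of k)) : Uniq (X ⊗ Fpt g₀).left := by
  intro z
  obtain ⟨T₁, hT₁, p, hp⟩ := exists_pt z
  obtain ⟨t₁⟩ := IsPt.nonempty T₁
  let ξ : (X ⊗ Fpt g₀).left :=
    (irreducibleComponent_mem_irreducibleComponents z).1.genericPoint
  have hξ : UniqAt ξ := uniqAt_genericPoint (irreducibleComponent_mem_irreducibleComponents z)
  obtain ⟨T₂, hT₂, q, hq⟩ := exists_pt ξ
  obtain ⟨t₂⟩ := IsPt.nonempty T₂
  -- a common field of definition, compatible over the base point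
  have hs : (p ≫ snd X (Fpt g₀)).left t₁ = (q ≫ snd X (Fpt g₀)).left t₂ := by
    have : Subsingleton (Fpt g₀).left := inferInstanceAs (Subsingleton (PrimeSpectrum L))
    exact Subsingleton.elim _ _
  obtain ⟨T, hT, v, w, hvw⟩ := exists_lift_pt (p ≫ snd X (Fpt g₀)) (q ≫ snd X (Fpt g₀)) t₂ ⟨t₁, hs⟩
  obtain ⟨M, _, _, g₁, v', c, hc⟩ := exists_smul_eq a hΦ (v ≫ q ≫ fst X _) (w ≫ p ≫ fst X _)
  let b : Fpt g₁ ⟶ Fpt g₀ := v' ≫ v ≫ q ≫ snd X (Fpt g₀)
  obtain ⟨t⟩ : Nonempty (Fpt g₁).left := inferInstanceAs (Nonempty (PrimeSpectrum M))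
  let P := X ◁ b
  have hP : ∀ C : Set (X ⊗ Fpt g₀).left, IsIrreducible C → IsIrreducible (P.left ⁻¹' C) :=
    fun C hC => isIrreducible_preimage_whisker b hC
  have hsurj : Function.Surjective P.left := fun y => by
    have := hP (closure {y}) isIrreducible_singleton.closure
    obtain ⟨y₁, T', hT', r, hr⟩ : ∃ _ : Unit, ∃ (T' : Over (Spec (CommRingCat.of k))) (_ : IsPt T')
        (r : T' ⟶ X ⊗ Fpt g₀), ∀ s, r.left s = y := ⟨(), exists_pt y⟩
    obtain ⟨t'⟩ := IsPt.nonempty T'
    obtain ⟨T'', hT'', e, e', he⟩ := exists_lift_pt b (r ≫ snd X (Fpt g₀)) t' (by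
      have : Subsingleton (Fpt g₀).left := inferInstanceAs (Subsingleton (PrimeSpectrum L))
      exact ⟨t, Subsingleton.elim _ _⟩)
    obtain ⟨t''⟩ := IsPt.nonempty T''
    refine ⟨(lift (e ≫ r ≫ fst X (Fpt g₀)) e').left t'', ?_⟩
    rw [← Scheme.Hom.comp_apply, ← Over.comp_left, lift_whiskerLeft, he, ← comp_lift,
      ← comp_lift, lift_fst_snd, Category.comp_id, Over.comp_left, Scheme.Hom.comp_apply, hr]
  let mk := fun (u : Fpt g₁ ⟶ X) => (lift u (𝟙 (Fpt g₁))).left t
  have key : ∀ u : Fpt g₁ ⟶ X, UniqAt (mk u) ↔ UniqAt ((lift u b).left t) := fun u => by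
    rw [uniqAt_iff P.left.continuous hsurj hP (mk u)]
    rw [show P.left (mk u) = (lift u b).left t by
      rw [← Scheme.Hom.comp_apply, ← Over.comp_left, lift_whiskerLeft, Category.id_comp]]
  have h1 : UniqAt (mk (v' ≫ v ≫ q ≫ fst X _)) := by
    rw [key, show (lift (v' ≫ v ≫ q ≫ fst X _) b).left t = ξ by
      simp only [b, ← comp_lift, lift_fst_snd, Category.comp_id, Over.comp_left,
        Scheme.Hom.comp_apply, hq]]
    exact hξ
  have h2 : UniqAt (mk (v' ≫ w ≫ p ≫ fst X _)) := by
    have := h1.map (homeo (trX a c))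
    rwa [trX_apply, hc] at this
  rw [key, show (lift (v' ≫ w ≫ p ≫ fst X _) b).left t = z by
    simp only [b, ← hvw, ← comp_lift, lift_fst_snd, Category.comp_id, Over.comp_left,
      Scheme.Hom.comp_apply, hp]] at h2
  exact h2

/-- every point of `X ⊗ T` lies in a unique component -/
theorem uniq_tensor' {K : Type u} [Field K]
    (g : Spec (CommRingCat.of K) ⟶ Spec (CommRingCat.of k)) : Uniq (X ⊗ Fpt g).left := by
  let i : Spec (CommRingCat.of (AlgebraicClosure K)) ⟶ Spec (CommRingCat.of K) :=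
    Spec.map (CommRingCat.ofHom (algebraMap K (AlgebraicClosure K)))
  let v : Fpt (i ≫ g) ⟶ Fpt g := Over.homMk i rfl
  have e : (X ◁ v).left ≫ (fst X (Fpt g)).left = (fst X (Fpt (i ≫ g))).left :=
    congr($(whiskerLeft_fst X v).left)
  have e' : (X ◁ v).left ≫ (snd X (Fpt g)).left = (snd X (Fpt (i ≫ g))).left ≫ v.left :=
    congr($(whiskerLeft_snd X v).left)
  have hpb : IsPullback (X ◁ v).left (snd X (Fpt (i ≫ g))).left (snd X (Fpt g)).left v.left := by
    have small : IsPullback (fst X (Fpt g)).left (snd X (Fpt g)).left X.hom g :=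
      IsPullback.of_hasPullback X.hom g
    refine IsPullback.of_right ?_ e' small
    rw [e, show v.left ≫ g = i ≫ g from Over.w v]
    exact IsPullback.of_hasPullback X.hom (i ≫ g)
  have hi : Flat i := by
    rw [HasRingHomProperty.Spec_iff (P := @Flat)]
    exact RingHom.flat_algebraMap_iff.2 inferInstance
  have his : Surjective i := PointBase.surj _ i
  have : Flat (X ◁ v).left := MorphismProperty.of_isPullback hpb.flip hi
  have : Surjective (X ◁ v).left := MorphismProperty.of_isPullback hpb.flip his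
  exact uniq_of_flat (X ◁ v).left (uniq_tensor a hΦ (i ≫ g))

/-- every point of `X` lies in a unique component -/
theorem uniq_homog : Uniq X.left := by
  let U := Fpt (𝟙 (Spec (CommRingCat.of k)))
  have h := uniq_tensor' a hΦ (𝟙 (Spec (CommRingCat.of k)))
  have hiso : IsIso (fst X U).left := inferInstanceAs (IsIso (pullback.fst X.hom (𝟙 _)))
  have : Surjective (fst X U).left := inferInstance
  have : Flat (fst X U).left := inferInstance
  exact uniq_of_flat (fst X U).left h

end

/-- the orbit map of the identity component at a point -/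
noncomputable def psi (D : IdComp G) {T : Over (Spec (CommRingCat.of k))} (u : T ⟶ X) :
    D.obj ⊗ T ⟶ X :=
  lift (fst D.obj T ≫ D.incl) (snd D.obj T ≫ u) ≫ a.act

lemma comp_psi (D : IdComp G) {T T' : Over (Spec (CommRingCat.of k))} (u : T ⟶ X) (d : T' ⟶ D.obj)
    (v : T' ⟶ T) : lift d v ≫ psi a D u = lift (d ≫ D.incl) (v ≫ u) ≫ a.act := by
  rw [psi, comp_lift_assoc, lift_fst_assoc, lift_snd_assoc]

lemma IdComp.mem_range (D : IdComp G) {T : Over (Spec (CommRingCat.of k))} (c : T ⟶ G)
    (h : ∀ t, c.left t ∈ connectedComponent (ept G)) : ∃ d : T ⟶ D.obj, d ≫ D.incl = c := by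
  have := D.closed
  have := D.flat
  obtain ⟨g, hg⟩ := exists_factor_flat D.incl.left c.left (by
    rintro _ ⟨t, rfl⟩; rw [D.range]; exact h t)
  refine ⟨Over.homMk g ?_, Over.OverMorphism.ext hg⟩
  rw [← Over.w D.incl, ← Category.assoc, hg, Over.w c]

/-- the orbit of the identity component is irreducible -/
lemma isIrreducible_range_psi (D : IdComp G) {K : Type u} [Field K]
    {g : Spec (CommRingCat.of K) ⟶ Spec (CommRingCat.of k)} (u : Fpt g ⟶ X) :
    IsIrreducible (Set.range (psi a D u).left) := by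
  have := D.geom
  have : UniversallyOpen D.obj.hom := inferInstance
  have : IrreducibleSpace (Fpt g).left := inferInstanceAs (IrreducibleSpace (PrimeSpectrum K))
  have : IrreducibleSpace (D.obj ⊗ Fpt g).left :=
    inferInstanceAs (IrreducibleSpace ↥(pullback D.obj.hom g))
  rw [← Set.image_univ]
  exact (IrreducibleSpace.isIrreducible_univ _).image _ (psi a D u).left.continuous.continuousOn

lemma isCompact_range_psi (D : IdComp G) {K : Type u} [Field K]
    {g : Spec (CommRingCat.of K) ⟶ Spec (CommRingCat.of k)} (u : Fpt g ⟶ X) :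
    IsCompact (Set.range (psi a D u).left) := by
  have := D.compact
  have : QuasiCompact D.obj.hom := (quasiCompact_iff_compactSpace _).2 ‹_›
  have : CompactSpace (Fpt g).left := inferInstanceAs (CompactSpace (PrimeSpectrum K))
  have : CompactSpace (D.obj ⊗ Fpt g).left :=
    QuasiCompact.compactSpace_of_compactSpace (pullback.snd D.obj.hom g)
  exact isCompact_range (psi a D u).left.continuous

lemma apply_mem_range_psi (D : IdComp G) {T : Over (Spec (CommRingCat.of k))} (u : T ⟶ X)
    (t : T.left) : u.left t ∈ Set.range (psi a D u).left := by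
  letI := D.grp
  haveI := D.hom
  refine ⟨(lift (1 : T ⟶ D.obj) (𝟙 T)).left t, ?_⟩
  rw [← Scheme.Hom.comp_apply, ← Over.comp_left, comp_psi, Category.id_comp,
    show (1 : T ⟶ D.obj) ≫ D.incl = 1 by rw [MonObj.one_comp],
    GrpAct.one_smul']

end Groth.Agent.GrpComp
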