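import Groth.Agent.GrpComp.Identity
import Groth.Agent.GrpAct.Basic

/-!
# Irreducible components of homogeneous spaces are orbits of the identity component
-/

universe u
open CategoryTheory CategoryTheory.Limits MonoidalCategory CartesianMonoidalCategory MonObj
open AlgebraicGeometry Groth.Agent.GrpField

namespace Groth.Agent.GrpComp

/-- uniqueness of the component through every point -/
def Uniq (A : Type*) [TopologicalSpace A] : Prop :=
  ∀ (x : A), ∀ C ∈ irreducibleComponents A, x ∈ C → C = irreducibleComponent x

/-- uniqueness of the component through a point -/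
def UniqAt {A : Type*} [TopologicalSpace A] (x : A) : Prop :=
  ∀ C ∈ irreducibleComponents A, x ∈ C → C = irreducibleComponent x

lemma Uniq.eq_of_mem {A : Type*} [TopologicalSpace A] (h : Uniq A) {x y : A}
    (hy : y ∈ irreducibleComponent x) : irreducibleComponent x = irreducibleComponent y :=
  h y _ (irreducibleComponent_mem_irreducibleComponents x) hy

lemma Uniq.eq_of_irreducible {A : Type*} [TopologicalSpace A] (h : Uniq A) {S : Set A}
    (hS : IsIrreducible S) {x : A} (hx : x ∈ S) : S ⊆ irreducibleComponent x := by
  obtain ⟨D, hD, hle⟩ := exists_mem_irreducibleComponents_subset_of_isIrreducible _ hS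
  exact h x D hD (hle hx) ▸ hle

lemma uniqAt_genericPoint {A : Scheme.{u}} {C : Set A} (hC : C ∈ irreducibleComponents A) :
    UniqAt hC.1.genericPoint := by
  have key : ∀ D ∈ irreducibleComponents A, hC.1.genericPoint ∈ D → D = C := by
    intro D hD hg
    have h : C ⊆ D := by
      rw [← hC.1.closure_genericPoint (isClosed_of_mem_irreducibleComponents C hC)]
      exact closure_minimal (Set.singleton_subset_iff.2 hg) (isClosed_of_mem_irreducibleComponents D hD)
    exact (hC.2 hD.1 h).antisymm h
  exact fun D hD hg => (key D hD hg).trans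
    (key _ (irreducibleComponent_mem_irreducibleComponents _) mem_irreducibleComponent).symm

lemma UniqAt.map {A : Type*} [TopologicalSpace A] {x : A} (h : UniqAt x) (e : A ≃ₜ A) :
    UniqAt (e x) := by
  have hcomp : ∀ D ∈ irreducibleComponents A, e ⁻¹' D ∈ irreducibleComponents A := by
    intro D hD
    rw [← e.image_symm]
    refine ⟨hD.1.image e.symm e.symm.continuous.continuousOn, fun T hT hDT => ?_⟩
    have hle : e '' T ⊆ D := hD.2 (hT.image e e.continuous.continuousOn)
      (fun z hz => ⟨e.symm z, hDT ⟨z, hz, rfl⟩, e.apply_symm_apply z⟩)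
    exact fun z hz => ⟨e z, hle ⟨z, hz, rfl⟩, e.symm_apply_apply z⟩
  intro C hC hxC
  have := (h _ (hcomp C hC) hxC).trans (h _ (hcomp _ (irreducibleComponent_mem_irreducibleComponents (e x)))
    mem_irreducibleComponent).symm
  exact e.surjective.preimage_injective this

/-- uniqueness descends along flat surjections -/
theorem uniq_of_flat {A B : Scheme.{u}} (p : A ⟶ B) [Flat p] [Surjective p] (h : Uniq A) : Uniq B := by
  intro x
  obtain ⟨x', rfl⟩ := p.surjective x
  have hI : IsIrreducible (irreducibleComponent x') := isIrreducible_irreducibleComponent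
  have hg : closure ({hI.genericPoint} : Set A) = irreducibleComponent x' :=
    hI.closure_genericPoint isClosed_irreducibleComponent
  have key : ∀ D ∈ irreducibleComponents B, p x' ∈ D → D = closure {p hI.genericPoint} := by
    intro D hD hxD
    have hDg := hD.1.closure_genericPoint (isClosed_of_mem_irreducibleComponents D hD)
    obtain ⟨a, ha, hpa⟩ := Flat.generalizingMap p
      (show hD.1.genericPoint ⤳ p x' from specializes_iff_mem_closure.2 (hDg.symm ▸ hxD))
    have hga : hI.genericPoint ⤳ a := specializes_iff_mem_closure.2 (by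
      rw [hg, ← h.eq_of_mem (ha.mem_closed isClosed_irreducibleComponent mem_irreducibleComponent)]
      exact mem_irreducibleComponent)
    have hsub : D ⊆ closure {p hI.genericPoint} := by
      rw [← hDg]
      exact closure_minimal (Set.singleton_subset_iff.2
        (hpa ▸ specializes_iff_mem_closure.1 (hga.map p.continuous))) isClosed_closure
    exact hsub.antisymm (hD.2 isIrreducible_singleton.closure hsub)
  intro C hC hx
  rw [key C hC hx, key _ (irreducibleComponent_mem_irreducibleComponents (p x')) mem_irreducibleComponent]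

/-- for open maps with irreducible preimages, preimages of components are components -/
lemma preimage_mem_components {A B : Type*} [TopologicalSpace A] [TopologicalSpace B] {p : A → B}
    (hc : Continuous p) (hs : Function.Surjective p)
    (hirr : ∀ C : Set B, IsIrreducible C → IsIrreducible (p ⁻¹' C)) {C : Set B}
    (hC : C ∈ irreducibleComponents B) : p ⁻¹' C ∈ irreducibleComponents A := by
  refine ⟨hirr C hC.1, fun E hE hle => ?_⟩
  have h1 : C ⊆ p '' E := fun c hc' => by
    obtain ⟨d, rfl⟩ := hs c; exact ⟨d, hle hc', rfl⟩
  exact Set.image_subset_iff.1 (hC.2 (hE.image p hc.continuousOn) h1)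

lemma uniqAt_iff {A B : Type*} [TopologicalSpace A] [TopologicalSpace B] {p : A → B}
    (hc : Continuous p) (hs : Function.Surjective p)
    (hirr : ∀ C : Set B, IsIrreducible C → IsIrreducible (p ⁻¹' C)) (x : A) :
    UniqAt x ↔ UniqAt (p x) := by
  constructor
  · intro h C hC hxC
    refine hs.preimage_injective ((h _ (preimage_mem_components hc hs hirr hC) hxC).trans
      (h _ (preimage_mem_components hc hs hirr (irreducibleComponent_mem_irreducibleComponents _)) ?_).symm)
    exact mem_irreducibleComponent
  · intro h
    have key : ∀ E ∈ irreducibleComponents A, x ∈ E → E = p ⁻¹' irreducibleComponent (p x) := by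
      intro E hE hxE
      obtain ⟨D, hD, hle⟩ := exists_mem_irreducibleComponents_subset_of_isIrreducible _
        (hE.1.image p hc.continuousOn)
      rw [← h D hD (hle ⟨x, hxE, rfl⟩)]
      have h2 : E ⊆ p ⁻¹' D := Set.image_subset_iff.1 hle
      exact h2.antisymm (hE.2 (hirr D hD.1) h2)
    exact fun E hE hxE => (key E hE hxE).trans
      (key _ (irreducibleComponent_mem_irreducibleComponents x) mem_irreducibleComponent).symm

variable {k : Type u} [Field k]

/-- a field valued point of `Spec k` -/
noncomputable abbrev Fpt {K : Type u} [Field K] (g : Spec (CommRingCat.of K) ⟶ Spec (CommRingCat.of k)) :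
    Over (Spec (CommRingCat.of k)) := Over.mk g

/-- every point of a point is a field point -/
lemma exists_fpt (T : Over (Spec (CommRingCat.of k))) [IsPt T] :
    ∃ (K : Type u) (_ : Field K) (g : Spec (CommRingCat.of K) ⟶ Spec (CommRingCat.of k))
      (_ : Fpt g ⟶ T), True := by
  obtain ⟨t⟩ := IsPt.nonempty T
  exact ⟨T.left.residueField t, inferInstance, T.left.fromSpecResidueField t ≫ T.hom,
    Over.homMk (T.left.fromSpecResidueField t) rfl, trivial⟩

/-- every point extends to an algebraically closed one -/
lemma exists_fpt_algClosed (T : Over (Spec (CommRingCat.of k))) [IsPt T] :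
    ∃ (K : Type u) (_ : Field K) (_ : IsAlgClosed K)
      (g : Spec (CommRingCat.of K) ⟶ Spec (CommRingCat.of k)) (_ : Fpt g ⟶ T), True := by
  obtain ⟨K, _, g, v, -⟩ := exists_fpt T
  let i : Spec (CommRingCat.of (AlgebraicClosure K)) ⟶ Spec (CommRingCat.of K) :=
    Spec.map (CommRingCat.ofHom (algebraMap K (AlgebraicClosure K)))
  exact ⟨AlgebraicClosure K, inferInstance, inferInstance, i ≫ g,
    (Over.homMk i rfl : Fpt (i ≫ g) ⟶ Fpt g) ≫ v, trivial⟩

variable {X : Over (Spec (CommRingCat.of k))}

/-- extension of the base point preserves irreducibility over an algebraically closed field -/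
lemma isIrreducible_preimage_whisker {L M : Type u} [Field L] [IsAlgClosed L] [Field M]
    {g₀ : Spec (CommRingCat.of L) ⟶ Spec (CommRingCat.of k)}
    {g₁ : Spec (CommRingCat.of M) ⟶ Spec (CommRingCat.of k)} (v : Fpt g₁ ⟶ Fpt g₀)
    {C : Set (X ⊗ Fpt g₀).left} (hC : IsIrreducible C) :
    IsIrreducible ((X ◁ v).left ⁻¹' C) := by
  obtain ⟨φ, hφ⟩ := Spec.map_surjective v.left
  let : Algebra L M := φ.hom.toAlgebra
  have hv : GeometricallyIrreducible v.left := by
    rw [← hφ]; exact GeomConn.geometricallyIrreducible_Spec (k := L) M
  have hvo : UniversallyOpen v.left := PointBase.uopen (S := Spec (CommRingCat.of L)) M v.left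
  have e : (X ◁ v).left ≫ (fst X (Fpt g₀)).left = (fst X (Fpt g₁)).left :=
    congr($(whiskerLeft_fst X v).left)
  have e' : (X ◁ v).left ≫ (snd X (Fpt g₀)).left = (snd X (Fpt g₁)).left ≫ v.left :=
    congr($(whiskerLeft_snd X v).left)
  have big : IsPullback (fst X (Fpt g₁)).left (snd X (Fpt g₁)).left X.hom g₁ :=
    IsPullback.of_hasPullback X.hom g₁
  have small : IsPullback (fst X (Fpt g₀)).left (snd X (Fpt g₀)).left X.hom g₀ :=
    IsPullback.of_hasPullback X.hom g₀
  have hpb : IsPullback (X ◁ v).left (snd X (Fpt g₁)).left (snd X (Fpt g₀)).left v.left := by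
    refine IsPullback.of_right ?_ e' small
    rw [e, show v.left ≫ g₀ = g₁ from Over.w v]
    exact big
  have : GeometricallyIrreducible (X ◁ v).left := MorphismProperty.of_isPullback hpb.flip hv
  have : UniversallyOpen (X ◁ v).left := MorphismProperty.of_isPullback hpb.flip hvo
  exact (X ◁ v).left.isIrreducible_preimage (X ◁ v).left.isOpenMap hC

end Groth.Agent.GrpComp
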