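import Groth.Agent.GrpComp.Homog

/-!
# The component of a point in a homogeneous space is the orbit of the identity component
-/

universe u
open CategoryTheory CategoryTheory.Limits MonoidalCategory CartesianMonoidalCategory MonObj
open AlgebraicGeometry Groth.Agent.GrpField

namespace Groth.Agent.GrpComp

variable {k : Type u} [Field k]

/-- lifting a point through a morphism with prescribed image -/
lemma exists_lift_pt_at {X Y T : Over (Spec (CommRingCat.of k))} [IsPt T] (f : X ⟶ Y) (b : T ⟶ Y)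
    (t : T.left) (x : X.left) (h : f.left x = b.left t) :
    ∃ (T' : Over (Spec (CommRingCat.of k))) (_ : IsPt T') (v : T' ⟶ T) (x' : T' ⟶ X),
      x' ≫ f = v ≫ b ∧ ∀ s, x'.left s = x := by
  obtain ⟨z, hz, -⟩ := Scheme.Pullback.exists_preimage_pullback (f := f.left) (g := b.left) x t h
  let W := pullback f.left b.left
  let T' : Over (Spec (CommRingCat.of k)) :=
    Over.mk (W.fromSpecResidueField z ≫ pullback.snd f.left b.left ≫ T.hom)
  refine ⟨T', inferInstance,
    Over.homMk (W.fromSpecResidueField z ≫ pullback.snd f.left b.left) (Category.assoc _ _ _),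
    Over.homMk (W.fromSpecResidueField z ≫ pullback.fst f.left b.left) ?_, ?_, fun s => ?_⟩
  · change (_ ≫ _) ≫ X.hom = _ ≫ _ ≫ T.hom
    rw [← Over.w f, ← Over.w b, Category.assoc, pullback.condition_assoc]
  · ext1
    change (_ ≫ _) ≫ f.left = (_ ≫ _) ≫ b.left
    rw [Category.assoc, Category.assoc, pullback.condition]
  · change (W.fromSpecResidueField z ≫ pullback.fst f.left b.left) s = x
    rw [Scheme.Hom.comp_apply]
    exact (congrArg _ (Scheme.fromSpecResidueField_apply z s)).trans hz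

variable {G : Over (Spec (CommRingCat.of k))} [GrpObj G]

/-- two points in the same irreducible closed set of `G ⊗ L` differ by the identity component -/
lemma div_mem_ept {L : Type u} [Field L] [IsAlgClosed L]
    {g₀ : Spec (CommRingCat.of L) ⟶ Spec (CommRingCat.of k)}
    {C : Set (G ⊗ Fpt g₀).left} (hC : IsIrreducible C) (hC' : IsClosed C)
    {T : Over (Spec (CommRingCat.of k))} [IsPt T] (c w : T ⟶ G) (b : T ⟶ Fpt g₀)
    (hc : ∀ t, (lift c b).left t ∈ C) (hw : ∀ t, (lift w b).left t ∈ C) (t : T.left) :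
    (c⁻¹ * w).left t ∈ connectedComponent (ept G) := by
  let GLo : Over (Spec (CommRingCat.of L)) := Over.mk (snd G (Fpt g₀)).left
  let P : Over (Spec (CommRingCat.of k)) := Over.mk ((GLo ⊗ GLo).hom ≫ g₀)
  let π₁ : P ⟶ G ⊗ Fpt g₀ := Over.homMk (fst GLo GLo).left (by
    change (fst GLo GLo).left ≫ (G ⊗ Fpt g₀).hom = (GLo ⊗ GLo).hom ≫ g₀
    rw [← Over.w (snd G (Fpt g₀)), ← Category.assoc, ← Over.w (fst GLo GLo)]; rfl)
  let π₂ : P ⟶ G ⊗ Fpt g₀ := Over.homMk (snd GLo GLo).left (by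
    change (snd GLo GLo).left ≫ (G ⊗ Fpt g₀).hom = (GLo ⊗ GLo).hom ≫ g₀
    rw [← Over.w (snd G (Fpt g₀)), ← Category.assoc, ← Over.w (snd GLo GLo)]; rfl)
  let D : P ⟶ G := (π₁ ≫ fst G (Fpt g₀))⁻¹ * (π₂ ≫ fst G (Fpt g₀))
  have hI : IsIrreducible (D.left '' box (X := GLo) (Y := GLo) C C) :=
    (isIrreducible_box (X := GLo) (Y := GLo) hC hC' hC hC').image _ D.left.continuous.continuousOn
  -- points of the fibre product
  have hpt : ∀ (p q : T ⟶ G), (∀ s, (lift p b).left s ∈ C) → (∀ s, (lift q b).left s ∈ C) →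
      ∀ s, (p⁻¹ * q).left s ∈ D.left '' box (X := GLo) (Y := GLo) C C := by
    intro p q hp hq s
    let TL : Over (Spec (CommRingCat.of L)) := Over.mk b.left
    let p' : TL ⟶ GLo := Over.homMk (lift p b).left (congr($(lift_snd p b).left))
    let q' : TL ⟶ GLo := Over.homMk (lift q b).left (congr($(lift_snd q b).left))
    let r : T ⟶ P := Over.homMk (lift p' q').left (by
      change (lift p' q').left ≫ (GLo ⊗ GLo).hom ≫ g₀ = T.hom
      rw [← Category.assoc, Over.w (lift p' q')]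
      exact Over.w b)
    have h1 : r ≫ π₁ = lift p b := Over.OverMorphism.ext (congr($(lift_fst p' q').left))
    have h2 : r ≫ π₂ = lift q b := Over.OverMorphism.ext (congr($(lift_snd p' q').left))
    have hD : r ≫ D = p⁻¹ * q := by
      simp only [D, MonObj.comp_mul, GrpObj.comp_inv, ← Category.assoc, h1, h2, lift_fst]
    refine ⟨(lift p' q').left s, mem_box p' q' s (hp s) (hq s), ?_⟩
    rw [← hD, Over.comp_left, Scheme.Hom.comp_apply]
    rfl
  have he : ept G ∈ D.left '' box (X := GLo) (Y := GLo) C C := by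
    have := hpt c c hc hc t
    rwa [inv_mul_cancel, one_apply] at this
  obtain ⟨E, hE, hle⟩ := exists_mem_irreducibleComponents_subset_of_isIrreducible _ hI
  rw [(connectedComponent_ept G).1, ← eq_irreducibleComponent' G hE (hle he)]
  exact hle (hpt c w hc hw t)

variable {X : Over (Spec (CommRingCat.of k))} (a : AlgGrp.Action G X)
  (hΦ : Surjective (lift a.act (snd G X)).left)
include hΦ

/-- the generic point of a component is in every orbit meeting it -/
theorem genericPoint_mem_range_psi (D : IdComp G) {L : Type u} [Field L] [IsAlgClosed L]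
    {g₀ : Spec (CommRingCat.of L) ⟶ Spec (CommRingCat.of k)} (u : Fpt g₀ ⟶ X) (t₀ : (Fpt g₀).left) :
    (irreducibleComponent_mem_irreducibleComponents (u.left t₀)).1.genericPoint ∈
      Set.range (psi a D u).left := by
  let hCy := irreducibleComponent_mem_irreducibleComponents (u.left t₀)
  have hη := hCy.1.closure_genericPoint isClosed_irreducibleComponent
  let U := Fpt g₀
  let x₀ := (lift u (𝟙 U)).left t₀
  let hC₀ := irreducibleComponent_mem_irreducibleComponents x₀
  let ξ := hC₀.1.genericPoint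
  have hξ := hC₀.1.closure_genericPoint isClosed_irreducibleComponent
  have hU := uniq_tensor' a hΦ g₀
  have hfx : (fst X U).left x₀ = u.left t₀ := by
    rw [← Scheme.Hom.comp_apply, ← Over.comp_left, lift_fst]
  have hfξ : (fst X U).left ξ = hCy.1.genericPoint := by
    have : Flat (fst X U).left := MorphismProperty.pullback_fst (P := @Flat) X.hom g₀ (by
      obtain ⟨φ, hφ⟩ := Spec.map_surjective g₀
      rw [← hφ, HasRingHomProperty.Spec_iff (P := @Flat)]
      let : Algebra k L := φ.hom.toAlgebra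
      exact RingHom.flat_algebraMap_iff.2 inferInstance)
    obtain ⟨z, hz, hfz⟩ := Flat.generalizingMap (fst X U).left
      (show hCy.1.genericPoint ⤳ (fst X U).left x₀ from specializes_iff_mem_closure.2 (by
        rw [hη, hfx]; exact mem_irreducibleComponent))
    have hξz : ξ ⤳ z := specializes_iff_mem_closure.2 (by
      rw [hξ, ← hU.eq_of_mem (hz.mem_closed isClosed_irreducibleComponent mem_irreducibleComponent)]
      exact mem_irreducibleComponent)
    exact (DomLib.eq_of_specializes_max (hη.symm ▸ hCy) (hfz ▸ hξz.map (fst X U).left.continuous))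
  obtain ⟨T₂, hT₂, q, hq⟩ := exists_pt ξ
  obtain ⟨M, _, _, g₁, v, c, hc⟩ :=
    exists_smul_eq a hΦ (q ≫ snd X U ≫ u) (q ≫ fst X U)
  let b : Fpt g₁ ⟶ U := v ≫ q ≫ snd X U
  obtain ⟨t⟩ : Nonempty (Fpt g₁).left := inferInstanceAs (Nonempty (PrimeSpectrum M))
  have hU₁ := uniq_tensor' a hΦ g₁
  let P := X ◁ b
  have hP : ∀ C : Set (X ⊗ U).left, IsIrreducible C → IsIrreducible (P.left ⁻¹' C) :=
    fun C hC => isIrreducible_preimage_whisker b hC
  let C₁ := P.left ⁻¹' irreducibleComponent x₀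
  have hC₁ : IsIrreducible C₁ := hP _ hC₀.1
  let e := homeo (trX a c⁻¹)
  let pu := (lift (v ≫ q ≫ fst X U) (𝟙 (Fpt g₁))).left t
  have hbt : b.left t = t₀ :=
    have : Subsingleton U.left := inferInstanceAs (Subsingleton (PrimeSpectrum L))
    Subsingleton.elim _ _
  have hpu : P.left pu = ξ := by
    rw [← Scheme.Hom.comp_apply, ← Over.comp_left, lift_whiskerLeft, Category.id_comp]
    simp only [b, ← comp_lift, lift_fst_snd, Category.comp_id, Over.comp_left,
      Scheme.Hom.comp_apply, hq]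
  have hpv : e pu ∈ C₁ := by
    rw [trX_apply, ← hc, ← GrpAct.mul_smul, inv_mul_cancel, GrpAct.one_smul']
    change P.left _ ∈ irreducibleComponent x₀
    rw [← Scheme.Hom.comp_apply, ← Over.comp_left, lift_whiskerLeft, Category.id_comp]
    have h2 : lift (v ≫ q ≫ snd X U ≫ u) b = b ≫ lift u (𝟙 U) := by
      rw [comp_lift, Category.comp_id]; simp [b]
    rw [h2, Over.comp_left, Scheme.Hom.comp_apply, hbt]
    exact mem_irreducibleComponent
  -- the generic point of `C₁` is fixed by the translation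
  have hgen := hC₁.closure_genericPoint
    ((isClosed_irreducibleComponent (x := x₀)).preimage P.left.continuous)
  let ξ₁ := hC₁.genericPoint
  have hsurj : Function.Surjective P.left := by
    intro y
    obtain ⟨w, hw⟩ := mem_range_map (𝟙 X) b y ⟨_, rfl⟩ ⟨t, by
      have : Subsingleton U.left := inferInstanceAs (Subsingleton (PrimeSpectrum L))
      exact Subsingleton.elim _ _⟩
    exact ⟨w, by rw [← hw]; simp only [P, id_tensorHom]⟩
  have hC₁' : C₁ ∈ irreducibleComponents (X ⊗ Fpt g₁).left :=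
    preimage_mem_components P.left.continuous hsurj hP hC₀
  have hpu₁ : pu ∈ C₁ := show P.left pu ∈ irreducibleComponent x₀ from
    hpu ▸ hξ.le (subset_closure rfl)
  have heC : e '' C₁ = C₁ := by
    have hirr : IsIrreducible (e '' C₁) := hC₁.image e e.continuous.continuousOn
    have h1 : e '' C₁ ⊆ C₁ := by
      have := hU₁.eq_of_irreducible hirr ⟨pu, hpu₁, rfl⟩
      rwa [← hU₁ (e pu) C₁ hC₁' hpv] at this
    refine h1.antisymm fun z hz => ?_
    have hirr' : IsIrreducible (e.symm '' C₁) := hC₁.image e.symm e.symm.continuous.continuousOn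
    have h2 : e.symm '' C₁ ⊆ C₁ := by
      have := hU₁.eq_of_irreducible hirr' ⟨e pu, hpv, e.symm_apply_apply pu⟩
      rwa [← hU₁ pu C₁ hC₁' hpu₁] at this
    exact ⟨e.symm z, h2 ⟨z, hz, rfl⟩, e.apply_symm_apply z⟩
  have hfix : e ξ₁ = ξ₁ := by
    have h1 : IsGenericPoint (e ξ₁) (C₁) := by
      rw [IsGenericPoint, ← Set.image_singleton, ← e.image_closure, hgen, heC]
    exact h1.eq hgen
  have hPξ₁ : P.left ξ₁ = ξ := by
    have h1 : ξ₁ ⤳ pu := specializes_iff_mem_closure.2 (hgen.symm ▸ hpu₁)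
    have h2 : ξ ⤳ P.left ξ₁ := specializes_iff_mem_closure.2 (by
      rw [hξ]; exact (hgen.le (subset_closure rfl) : ξ₁ ∈ C₁))
    exact ((hpu ▸ h1.map P.left.continuous).antisymm h2).eq
  obtain ⟨T₃, hT₃, r, hr⟩ := exists_pt ξ₁
  obtain ⟨t₃⟩ := IsPt.nonempty T₃
  let φ₀ : G ⊗ U ⟶ X ⊗ U := lift (lift (fst G U) (snd G U ≫ u) ≫ a.act) (snd G U)
  let gam := (lift c b).left t
  have hgam : φ₀.left gam = (r ≫ P).left t₃ := by
    rw [Over.comp_left, Scheme.Hom.comp_apply, hr, hPξ₁, ← Scheme.Hom.comp_apply, ← Over.comp_left]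
    rw [show lift c b ≫ φ₀ = lift (lift c (b ≫ u) ≫ a.act) b by
      simp [φ₀, GrpAct.comp_smul]]
    rw [show b ≫ u = v ≫ q ≫ snd X U ≫ u by simp [b], hc]
    simp only [b, ← comp_lift, lift_fst_snd, Category.comp_id, Over.comp_left,
      Scheme.Hom.comp_apply, hq]
  obtain ⟨T₄, hT₄, v₄, x₄, hx₄, hx₄gam⟩ := exists_lift_pt_at φ₀ (r ≫ P) t₃ gam hgam
  obtain ⟨t₄⟩ := IsPt.nonempty T₄
  let s := v₄ ≫ r ≫ snd X (Fpt g₁)
  let w := x₄ ≫ fst G U
  have hxs : x₄ ≫ snd G U = s ≫ b := by
    have := hx₄ =≫ snd X U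
    simpa [φ₀, P, s] using this
  have hxf : lift w (s ≫ b ≫ u) ≫ a.act = v₄ ≫ r ≫ fst X (Fpt g₁) := by
    have h := hx₄ =≫ fst X U
    simp only [φ₀, Category.assoc, lift_fst, P, whiskerLeft_fst] at h
    rw [← h, ← reassoc_of% hxs, GrpAct.comp_smul]
  have hfixr : (v₄ ≫ r ≫ (trX a c⁻¹).hom ≫ fst X (Fpt g₁)).left t₄ = hCy.1.genericPoint := by
    simp only [Over.comp_left, Scheme.Hom.comp_apply, hr]
    rw [show (trX a c⁻¹).hom.left ξ₁ = ξ₁ from hfix,
      show (fst X (Fpt g₁)).left ξ₁ = (fst X U).left (P.left ξ₁) by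
        rw [← Scheme.Hom.comp_apply, ← Over.comp_left, whiskerLeft_fst], hPξ₁, hfξ]
  have hd : ∀ t', ((s ≫ c)⁻¹ * w).left t' ∈ connectedComponent (ept G) := by
    refine div_mem_ept (C := closure {gam}) isIrreducible_singleton.closure isClosed_closure
      (s ≫ c) w (s ≫ b) (fun t' => ?_) fun t' => ?_
    · rw [← comp_lift, Over.comp_left, Scheme.Hom.comp_apply]
      have : Subsingleton (Fpt g₁).left := inferInstanceAs (Subsingleton (PrimeSpectrum M))
      rw [Subsingleton.elim (s.left t') t]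
      exact subset_closure rfl
    · rw [← hxs, ← comp_lift, lift_fst_snd, Category.comp_id, hx₄gam]
      exact subset_closure rfl
  obtain ⟨d, hd⟩ := D.mem_range _ hd
  refine ⟨(lift d (s ≫ b)).left t₄, ?_⟩
  rw [← Scheme.Hom.comp_apply, ← Over.comp_left, comp_psi, hd, ← hfixr]
  congr 2
  rw [GrpAct.mul_smul, show lift w ((s ≫ b) ≫ u) = lift w (s ≫ b ≫ u) by rw [Category.assoc], hxf]
  simp [trX, s, GrpAct.comp_smul, GrpObj.comp_inv]

/-- the component of a point is the orbit of the identity component -/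
theorem component_eq_range_psi (D : IdComp G) {K : Type u} [Field K]
    {g : Spec (CommRingCat.of K) ⟶ Spec (CommRingCat.of k)} (u : Fpt g ⟶ X) (t : (Fpt g).left) :
    irreducibleComponent (u.left t) = Set.range (psi a D u).left := by
  letI := D.grp
  haveI := D.hom
  refine subset_antisymm (fun z hz => ?_)
    ((uniq_homog a hΦ).eq_of_irreducible (isIrreducible_range_psi a D u) (apply_mem_range_psi a D u t))
  obtain ⟨T₁, hT₁, w₁, hw₁⟩ := exists_pt z
  obtain ⟨L, _, _, g₁, e₁, -⟩ := exists_fpt_algClosed T₁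
  obtain ⟨L', _, _, g₀, e₀, -⟩ := exists_fpt_algClosed (Fpt g)
  obtain ⟨t₁⟩ : Nonempty (Fpt g₁).left := inferInstanceAs (Nonempty (PrimeSpectrum L))
  obtain ⟨t₀⟩ : Nonempty (Fpt g₀).left := inferInstanceAs (Nonempty (PrimeSpectrum L'))
  let w := e₁ ≫ w₁
  let u₀ := e₀ ≫ u
  have hwz : ∀ t', w.left t' = z := fun t' => by
    rw [Over.comp_left, Scheme.Hom.comp_apply, hw₁]
  have hu₀ : u₀.left t₀ = u.left t := by
    have : Subsingleton (Fpt g).left := inferInstanceAs (Subsingleton (PrimeSpectrum K))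
    rw [Over.comp_left, Scheme.Hom.comp_apply, Subsingleton.elim (e₀.left t₀) t]
  have hcomp : irreducibleComponent (w.left t₁) = irreducibleComponent (u₀.left t₀) := by
    rw [hwz, hu₀, ← (uniq_homog a hΦ).eq_of_mem hz]
  obtain ⟨p₀, hp₀⟩ := genericPoint_mem_range_psi a hΦ D u₀ t₀
  obtain ⟨p₁, hp₁⟩ := genericPoint_mem_range_psi a hΦ D w t₁
  have heq : (psi a D u₀).left p₀ = (psi a D w).left p₁ := by
    rw [hp₀, hp₁]; congr 1; rw [hcomp]
  obtain ⟨T₂, hT₂, r, hr⟩ := exists_pt p₁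
  obtain ⟨t₂⟩ := IsPt.nonempty T₂
  obtain ⟨T₃, hT₃, v, x, hx⟩ := exists_lift_pt (psi a D u₀) (r ≫ psi a D w) t₂
    ⟨p₀, by rw [Over.comp_left, Scheme.Hom.comp_apply, hr]; exact heq⟩
  obtain ⟨t₃⟩ := IsPt.nonempty T₃
  let A := x ≫ fst D.obj (Fpt g₀)
  let B := v ≫ r ≫ fst D.obj (Fpt g₁)
  refine ⟨(lift (B⁻¹ * A) (x ≫ snd D.obj (Fpt g₀) ≫ e₀)).left t₃, ?_⟩
  rw [← Scheme.Hom.comp_apply, ← Over.comp_left, comp_psi, MonObj.mul_comp, GrpObj.inv_comp,
    GrpAct.mul_smul]
  have h1 : lift (A ≫ D.incl) ((x ≫ snd D.obj (Fpt g₀) ≫ e₀) ≫ u) ≫ a.act =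
      lift (B ≫ D.incl) (v ≫ r ≫ snd D.obj (Fpt g₁) ≫ w) ≫ a.act := by
    have := hx
    simp only [psi, GrpAct.comp_smul] at this
    simpa [A, B, u₀] using this
  rw [h1, ← GrpAct.mul_smul, inv_mul_cancel, GrpAct.one_smul', ← Category.assoc v r, ← Category.assoc (v ≫ r),
    Over.comp_left, Scheme.Hom.comp_apply, hwz]

end Groth.Agent.GrpComp
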